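import Cfsg.Agent.H728.DghpEig

/-!
# Weights of abelian subgroups (helper728)

`G` acts faithfully and linearly on `V` over an algebraically closed field `L`, `A ≤ G` abelian of exponent dividing `s`,
`s ≠ 0` in `L`, `y` of order `r ^ a` normalises `A`. Then `r ^ a ≤ dim V` or `y ^ (r ^ (a - 1))` centralises `A`
(`pow_le_or_comm`).
-/

set_option autoImplicit false
set_option linter.unusedSectionVars false

namespace Cfsg.Agent.H728.DghpWt

open Module

variable {G : Type*} [Group G] {L : Type*} [Field L] [IsAlgClosed L] {V : Type*} [AddCommGroup V] [Module L V]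
  [FiniteDimensional L V]

/-- A commuting set of operators has a common eigenvector in every invariant subspace `≠ 0`. -/
theorem exists_common (S : Set (Module.End L V)) (hS : ∀ f ∈ S, ∀ g ∈ S, Commute f g) (U : Submodule L V)
    (hU : U ≠ ⊥) (hinv : ∀ f ∈ S, ∀ u ∈ U, f u ∈ U) :
    ∃ v ∈ U, v ≠ 0 ∧ ∀ f ∈ S, ∃ c : L, f v = c • v := by
  classical
  -- a minimal invariant subspace
  have hex : ∃ n : ℕ, ∃ W : Submodule L V, W ≤ U ∧ W ≠ ⊥ ∧ (∀ f ∈ S, ∀ u ∈ W, f u ∈ W) ∧ finrank L W = n :=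
    ⟨_, U, le_rfl, hU, hinv, rfl⟩
  obtain ⟨W, hWU, hW, hWinv, hWn⟩ := Nat.find_spec hex
  have hmin : ∀ W' : Submodule L V, W' ≤ W → W' ≠ ⊥ → (∀ f ∈ S, ∀ u ∈ W', f u ∈ W') → W' = W := by
    intro W' h1 h2 h3
    refine Submodule.eq_of_le_of_finrank_le h1 ?_
    rw [hWn]
    exact Nat.find_min' hex ⟨W', h1.trans hWU, h2, h3, rfl⟩
  obtain ⟨v, hv, hv0⟩ := (Submodule.ne_bot_iff W).1 hW
  refine ⟨v, hWU hv, hv0, fun f hf => ?_⟩
  have hWnt : Nontrivial ↥W := (Submodule.nontrivial_iff_ne_bot).2 hW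
  obtain ⟨c, hc⟩ := Module.End.exists_eigenvalue (f.restrict (hWinv f hf))
  obtain ⟨w, hw⟩ := hc.exists_hasEigenvector
  have hw1 : f w.1 = c • w.1 := congrArg Subtype.val hw.apply_eq_smul
  have hw0 : w.1 ≠ 0 := fun h => hw.2 (Subtype.ext h)
  let W' : Submodule L V := W ⊓ f.eigenspace c
  have h1 : W' = W := by
    refine hmin W' inf_le_left ?_ ?_
    · rw [Submodule.ne_bot_iff]
      exact ⟨w.1, ⟨w.2, Module.End.mem_eigenspace_iff.2 hw1⟩, hw0⟩
    · intro g hg u hu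
      refine ⟨hWinv g hg u hu.1, Module.End.mem_eigenspace_iff.2 ?_⟩
      have h2 := congrArg (fun h : Module.End L V => h u) (hS f hf g hg).eq
      have h3 := Module.End.mem_eigenspace_iff.1 hu.2
      show f (g u) = _
      calc f (g u) = g (f u) := h2
        _ = _ := by rw [h3, map_smul]
  have h2 : v ∈ W' := by rw [h1]; exact hv
  exact ⟨c, Module.End.mem_eigenspace_iff.1 h2.2⟩

/-- Vectors of pairwise different weights are linearly independent. -/
theorem linInd {ι M : Type*} [Monoid M] (ρ : M →* Module.End L V) (χ : ι → M →* L) (hχ : Function.Injective χ)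
    (v : ι → V) (hv0 : ∀ i, v i ≠ 0) (hv : ∀ i m, ρ m (v i) = χ i m • v i) : LinearIndependent L v := by
  rw [linearIndependent_iff']
  intro t c hc i hi
  by_contra hne
  obtain ⟨φ, hφ⟩ : ∃ φ : V →ₗ[L] L, φ (v i) ≠ 0 := by
    by_contra h
    push Not at h
    exact hv0 i ((Module.forall_dual_apply_eq_zero_iff L (v i)).1 h)
  have h1 := linearIndependent_monoidHom M L
  have h2 : LinearIndependent L (fun j : ι => (χ j : M → L)) := h1.comp χ hχ
  rw [linearIndependent_iff'] at h2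
  have h3 := h2 t (fun j => c j * φ (v j)) ?_ i hi
  · exact (mul_ne_zero hne hφ) h3
  · ext m
    rw [Finset.sum_apply, Pi.zero_apply]
    have h4 : ρ m (∑ j ∈ t, c j • v j) = 0 := by rw [hc, map_zero]
    rw [map_sum] at h4
    have h5 := congrArg φ h4
    rw [map_sum, map_zero] at h5
    rw [← h5]
    refine Finset.sum_congr rfl fun j _ => ?_
    rw [map_smul, map_smul, hv, map_smul]
    simp only [Pi.smul_apply, smul_eq_mul]
    ring

theorem pow_le_or_comm (ρ : G →* Module.End L V) (hρ : Function.Injective ρ) {A : Subgroup G}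
    (hA : ∀ u ∈ A, ∀ v ∈ A, u * v = v * u) {s : ℕ} (hs : (s : L) ≠ 0) (hAs : ∀ u ∈ A, u ^ s = 1) {r a : ℕ}
    (hr : r.Prime) {y : G} (hy : y ∈ Subgroup.normalizer (A : Set G)) (hya : y ^ r ^ a = 1) (ha : 0 < a) :
    r ^ a ≤ finrank L V ∨ ∀ u ∈ A, y ^ r ^ (a - 1) * u = u * y ^ r ^ (a - 1) := by
  by_contra hcon
  push Not at hcon
  obtain ⟨hlt, b, hb, hbz⟩ := hcon
  set m := r ^ (a - 1) with hm
  set z := y ^ m with hz
  have hzN : z ∈ Subgroup.normalizer (A : Set G) := pow_mem hy m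
  have hconjA : ∀ (n : ℤ), ∀ u ∈ A, y ^ n * u * (y ^ n)⁻¹ ∈ A := fun n u hu =>
    (Subgroup.mem_normalizer_iff.1 (zpow_mem hy n) u).1 hu
  let b' := z * b * z⁻¹ * b⁻¹
  have hb' : b' ∈ A := mul_mem ((Subgroup.mem_normalizer_iff.1 hzN b).1 hb) (inv_mem hb)
  have hb'1 : b' ≠ 1 := by
    intro h
    apply hbz
    have h1 : z * b * z⁻¹ = b := by
      have := mul_inv_eq_one.1 h
      exact this
    exact mul_inv_eq_iff_eq_mul.1 h1
  -- the subspace
  let U : Submodule L V := LinearMap.range (ρ b' - 1)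
  have hU : U ≠ ⊥ := by
    intro h
    apply hb'1
    apply hρ
    rw [map_one]
    exact sub_eq_zero.1 (LinearMap.range_eq_bot.1 h)
  have hcomm : ∀ u ∈ A, ∀ v ∈ A, Commute (ρ u) (ρ v) := fun u hu v hv => by
    show ρ u * ρ v = ρ v * ρ u
    rw [← map_mul, hA u hu v hv, map_mul]
  obtain ⟨v, hvU, hv0, hv⟩ := exists_common (ρ '' (A : Set G))
    (by
      rintro _ ⟨u, hu, rfl⟩ _ ⟨v, hv, rfl⟩
      exact hcomm u hu v hv) U hU
    (by
      rintro _ ⟨u, hu, rfl⟩ _ ⟨w, rfl⟩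
      refine ⟨ρ u w, ?_⟩
      have h1 : Commute (ρ u) (ρ b' - 1) := (hcomm u hu b' hb').sub_right (Commute.one_right _)
      exact (congrArg (fun h : Module.End L V => h w) h1.eq).symm)
  have hv' : ∀ u : ↥A, ∃ c : L, ρ u v = c • v := fun u => hv _ ⟨u, u.2, rfl⟩
  choose χ hχ using hv'
  have hinj : ∀ c d : L, c • v = d • v → c = d := fun c d h => by
    have h1 : (c - d) • v = 0 := by rw [sub_smul, h, sub_self]
    rcases smul_eq_zero.1 h1 with h2 | h2
    · exact sub_eq_zero.1 h2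
    · exact absurd h2 hv0
  have hχ1 : χ 1 = 1 := by
    apply hinj
    rw [← hχ, one_smul]
    show ρ (1 : G) v = v
    rw [map_one, Module.End.one_apply]
  have hχmul : ∀ u w : ↥A, χ (u * w) = χ u * χ w := fun u w => by
    apply hinj
    rw [← hχ]
    show ρ ((u : G) * (w : G)) v = _
    rw [map_mul, Module.End.mul_apply, hχ w, map_smul, hχ u, smul_smul, mul_comm]
  let X : ↥A →* L := ⟨⟨χ, hχ1⟩, hχmul⟩
  -- `χ b' ≠ 1`
  have hb'χ : χ ⟨b', hb'⟩ ≠ 1 := by
    intro h1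
    have h2 : ρ b' v = v := by
      have := hχ ⟨b', hb'⟩
      rwa [h1, one_smul] at this
    obtain ⟨w, hw⟩ := hvU
    have h3 : (∑ i ∈ Finset.range s, ρ b' ^ i) * (ρ b' - 1) = 0 := by
      rw [geom_sum_mul, ← map_pow, hAs b' hb', map_one, sub_self]
    have h4 : (∑ i ∈ Finset.range s, ρ b' ^ i) v = 0 := by
      rw [← hw]
      exact congrArg (fun h : Module.End L V => h w) h3
    have h5 : ∀ i : ℕ, (ρ b' ^ i) v = v := by
      intro i
      induction i with
      | zero => rfl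
      | succ i ih => rw [pow_succ', Module.End.mul_apply, ih, h2]
    rw [LinearMap.sum_apply, Finset.sum_congr rfl (fun i _ => h5 i), Finset.sum_const, Finset.card_range,
      ← Nat.cast_smul_eq_nsmul L] at h4
    rcases smul_eq_zero.1 h4 with h6 | h6
    · exact hs h6
    · exact hv0 h6
  -- the twisted characters
  let cj : ℤ → ↥A →* ↥A := fun n =>
    { toFun := fun u => ⟨y ^ n * u * (y ^ n)⁻¹, hconjA n u u.2⟩
      map_one' := Subtype.ext (by
        show y ^ n * 1 * (y ^ n)⁻¹ = 1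
        group)
      map_mul' := fun u w => Subtype.ext (by
        show y ^ n * (u * w) * (y ^ n)⁻¹ = y ^ n * u * (y ^ n)⁻¹ * (y ^ n * w * (y ^ n)⁻¹)
        group) }
  have hcj : ∀ n k (u : ↥A), cj n (cj k u) = cj (n + k) u := fun n k u => Subtype.ext (by
    show y ^ n * (y ^ k * u * (y ^ k)⁻¹) * (y ^ n)⁻¹ = y ^ (n + k) * u * (y ^ (n + k))⁻¹
    rw [zpow_add]
    group)
  let Y : ℤ → ↥A →* L := fun n => X.comp (cj n)
  have hYv : ∀ (n : ℤ) (u : ↥A), ρ u (ρ (y ^ (-n)) v) = Y n u • ρ (y ^ (-n)) v := by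
    intro n u
    have h1 : (u : G) * y ^ (-n) = y ^ (-n) * (y ^ n * u * (y ^ n)⁻¹) := by group
    have h2 : ρ u (ρ (y ^ (-n)) v) = ρ ((u : G) * y ^ (-n)) v := by rw [map_mul, Module.End.mul_apply]
    rw [h2, h1, map_mul, Module.End.mul_apply]
    have h3 := hχ ⟨y ^ n * u * (y ^ n)⁻¹, hconjA n u u.2⟩
    rw [h3, map_smul]
    rfl
  have hYn : ∀ n : ℤ, ρ (y ^ (-n)) v ≠ 0 := by
    intro n h
    apply hv0
    have h1 : ρ (y ^ n) (ρ (y ^ (-n)) v) = v := by
      rw [← Module.End.mul_apply, ← map_mul, ← zpow_add, add_neg_cancel, zpow_zero, map_one, Module.End.one_apply]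
    rw [← h1, h, map_zero]
  -- the period
  have hper : ∀ n k : ℤ, Y n = Y k → Y (n - k) = Y 0 := by
    intro n k h
    ext u
    have h1 := congrArg (fun f : ↥A →* L => f (cj (-k) u)) h
    have h2 : X (cj n (cj (-k) u)) = X (cj k (cj (-k) u)) := h1
    rw [hcj, hcj, add_neg_cancel, ← sub_eq_add_neg] at h2
    exact h2
  let P : AddSubgroup ℤ :=
    { carrier := {n | Y n = Y 0}
      zero_mem' := rfl
      add_mem' := fun {n k} hn hk => by
        have hn' : Y n = Y 0 := hn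
        have hk' : Y k = Y 0 := hk
        show Y (n + k) = Y 0
        ext u
        have h1 := congrArg (fun f : ↥A →* L => f (cj k u)) hn'
        have h2 : X (cj n (cj k u)) = X (cj 0 (cj k u)) := h1
        rw [hcj, hcj, zero_add] at h2
        have h3 := congrArg (fun f : ↥A →* L => f u) hk'
        exact h2.trans h3
      neg_mem' := fun {n} hn => by
        have hn' : Y n = Y 0 := hn
        show Y (-n) = Y 0
        have h1 := hper 0 n hn'.symm
        rwa [zero_sub] at h1 }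
  have hPa : ((r ^ a : ℕ) : ℤ) ∈ P := by
    show Y _ = Y 0
    ext u
    show X (cj _ u) = X (cj 0 u)
    congr 1
    apply Subtype.ext
    show y ^ ((r ^ a : ℕ) : ℤ) * u * (y ^ ((r ^ a : ℕ) : ℤ))⁻¹ = y ^ (0 : ℤ) * u * (y ^ (0 : ℤ))⁻¹
    rw [zpow_natCast, hya, zpow_zero]
  have hPm : ((m : ℕ) : ℤ) ∉ P := by
    intro h
    have h1 : Y (m : ℤ) = Y 0 := h
    have h2 := congrArg (fun f : ↥A →* L => f ⟨b, hb⟩) h1
    have h3 : χ (cj (m : ℤ) ⟨b, hb⟩) = χ (cj 0 ⟨b, hb⟩) := h2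
    have h4 : cj (m : ℤ) ⟨b, hb⟩ = ⟨b', hb'⟩ * ⟨b, hb⟩ := Subtype.ext (by
      show y ^ (m : ℤ) * b * (y ^ (m : ℤ))⁻¹ = b' * b
      rw [zpow_natCast, ← hz]
      show _ = z * b * z⁻¹ * b⁻¹ * b
      group)
    have h5 : cj 0 ⟨b, hb⟩ = ⟨b, hb⟩ := Subtype.ext (by
      show y ^ (0 : ℤ) * b * (y ^ (0 : ℤ))⁻¹ = b
      rw [zpow_zero]; group)
    rw [h4, h5, hχmul] at h3
    have h6 : χ ⟨b, hb⟩ ≠ 0 := by
      intro h6
      have h7 := hχmul ⟨b, hb⟩ ⟨b, hb⟩⁻¹
      rw [mul_inv_cancel, hχ1, h6, zero_mul] at h7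
      exact one_ne_zero h7
    exact hb'χ (mul_right_cancel₀ h6 (h3.trans (one_mul _).symm))
  have hPk : ∀ k : ℕ, 0 < k → k < r ^ a → ((k : ℕ) : ℤ) ∉ P := by
    intro k hk0 hk hkP
    apply hPm
    have h1 : ((Nat.gcd k (r ^ a) : ℕ) : ℤ) ∈ P := by
      rw [Nat.gcd_eq_gcd_ab]
      refine add_mem ?_ ?_
      · rw [mul_comm, ← smul_eq_mul]
        exact AddSubgroup.zsmul_mem _ hkP _
      · rw [mul_comm, ← smul_eq_mul]
        exact AddSubgroup.zsmul_mem _ hPa _
    obtain ⟨j, hj, hgj⟩ := (Nat.dvd_prime_pow hr).1 (Nat.gcd_dvd_right k (r ^ a))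
    have hja : j ≤ a - 1 := by
      by_contra hlt'
      have hja : j = a := by omega
      have h2 : r ^ a ∣ k := by
        have h3 := Nat.gcd_dvd_left k (r ^ a)
        rw [hgj, hja] at h3
        exact h3
      exact absurd (Nat.le_of_dvd hk0 h2) (by omega)
    rw [hgj] at h1
    obtain ⟨t, ht⟩ := pow_dvd_pow r hja
    have h2 : ((m : ℕ) : ℤ) = (t : ℤ) • ((r ^ j : ℕ) : ℤ) := by
      rw [hm, ht]
      push_cast
      ring
    rw [h2]
    exact AddSubgroup.zsmul_mem _ h1 _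
  -- the independent vectors
  have hYinj : Function.Injective fun i : Fin (r ^ a) => Y (i : ℕ) := by
    intro i j hij
    by_contra hne
    have hij' : Y ((i : ℕ) : ℤ) = Y ((j : ℕ) : ℤ) := hij
    have hne' : (i : ℕ) ≠ (j : ℕ) := fun h => hne (Fin.ext h)
    rcases Nat.lt_or_gt_of_ne hne' with h | h
    · refine hPk ((j : ℕ) - (i : ℕ)) (by omega) (by omega) ?_
      have h1 := hper _ _ hij'.symm
      rw [← Nat.cast_sub h.le] at h1
      exact h1
    · refine hPk ((i : ℕ) - (j : ℕ)) (by omega) (by omega) ?_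
      have h1 := hper _ _ hij'
      rw [← Nat.cast_sub h.le] at h1
      exact h1
  have hli := linInd (ρ.comp A.subtype) (fun i : Fin (r ^ a) => Y (i : ℕ)) hYinj
    (fun i => ρ (y ^ (-((i : ℕ) : ℤ))) v) (fun i => hYn _) (fun i u => hYv _ u)
  have h1 := hli.fintype_card_le_finrank
  rw [Fintype.card_fin] at h1
  exact absurd h1 (not_le.2 hlt)

end Cfsg.Agent.H728.DghpWt
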