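import Cfsg.Agent.H728.DghpLem
import Cfsg.Agent.H728.DghpWt

/-!
# Pairs in linear groups (helper728)

`G → GL_N(K)` injective, `K` a finite field with `q` elements, `r ≠ s` primes different from the characteristic, no
element of order `r` commutes with one of order `s`.

* `no_cyc` : if the elementary abelian `r`-subgroups of `G` are cyclic and `lcm (ord_r q) s > N`, no nontrivial elementary
  abelian `r`-subgroup is normalised by an element of order `s`;
* `no_wt` : if `r ^ a > N`, no nontrivial elementary abelian `s`-subgroup is normalised by an element of order `r ^ a`;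
* `not_solvable_cyc`, `not_solvable_wt` : the two criteria.
-/

set_option autoImplicit false

namespace Cfsg.Agent.H728.DghpMat

open Cfsg.Agent.H728.DghpLem

variable {G : Type*} [Group G] [Finite G] {K : Type*} [Field K] [Fintype K] {N : Type*} [Fintype N] [DecidableEq N]
  {φ : G →* GL N K}

/-- no element of order `r` commutes with an element of order `s` -/
def NonAdj (G : Type*) [Group G] (r s : ℕ) : Prop :=
  ∀ x y : G, orderOf x = r → orderOf y = s → x * y ≠ y * x

theorem NonAdj.symm {r s : ℕ} (h : NonAdj G r s) : NonAdj G s r := fun x y hx hy e => h y x hy hx e.symm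

theorem no_cyc_add (hφ : Function.Injective φ) {r s : ℕ} (hr : r.Prime) (hs : s.Prime) (hrK : (r : K) ≠ 0)
    (hna : NonAdj G r s) (hcyc : ∀ P : Subgroup G, Elem r P → IsCyclic ↥P) (e : ℕ)
    (he : e = 0 ∨ (e = 1 ∧ ∀ y : G, orderOf y = r → ∃ v : N → K, v ≠ 0 ∧ (φ y : Matrix N N K).mulVec v = v))
    (hlt : Fintype.card N < Nat.lcm (orderOf ((Fintype.card K : ℕ) : ZMod r)) s + e) (P : Subgroup G) (hP : Elem r P)
    (x : G) (hx : orderOf x = s) : x ∉ Subgroup.normalizer (P : Set G) := by
  intro hn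
  obtain ⟨y, hy, rfl⟩ := hP.eq_zpowers_of_cyclic hr (hcyc P hP)
  obtain ⟨c, hc, h⟩ := act_on_prime hr hs hy hx hn (fun h => hna y x hy hx h.symm)
  have h1 : φ x * φ y * (φ x)⁻¹ = φ y ^ (c : ZMod r).val := by
    rw [← map_mul, ← map_inv, ← map_mul, h, map_pow]
  have h2 := Cfsg.Agent.H728.DghpEig.lcm_add_le hr hrK (x := φ x) (y := φ y)
    (by rw [orderOf_injective φ hφ, hy]) hc h1 e (he.imp id fun h => ⟨h.1, h.2 y hy⟩)
  omega

theorem no_cyc (hφ : Function.Injective φ) {r s : ℕ} (hr : r.Prime) (hs : s.Prime) (hrK : (r : K) ≠ 0)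
    (hna : NonAdj G r s) (hcyc : ∀ P : Subgroup G, Elem r P → IsCyclic ↥P)
    (hlt : Fintype.card N < Nat.lcm (orderOf ((Fintype.card K : ℕ) : ZMod r)) s) (P : Subgroup G) (hP : Elem r P)
    (x : G) (hx : orderOf x = s) : x ∉ Subgroup.normalizer (P : Set G) :=
  no_cyc_add hφ hr hs hrK hna hcyc 0 (Or.inl rfl) (by simpa using hlt) P hP x hx

/-- the representation over the algebraic closure -/
noncomputable def rep (φ : G →* GL N K) : G →* Module.End (AlgebraicClosure K) (N → AlgebraicClosure K) where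
  toFun g := Matrix.toLin' ((φ g : Matrix N N K).map (algebraMap K (AlgebraicClosure K)))
  map_one' := by
    rw [map_one, Units.val_one, Matrix.map_one _ (map_zero _) (map_one _), Matrix.toLin'_one]
    rfl
  map_mul' g h := by
    rw [map_mul, Units.val_mul, Matrix.map_mul, Matrix.toLin'_mul]
    rfl

theorem rep_injective (hφ : Function.Injective φ) : Function.Injective (rep φ) := by
  intro g h e
  have h1 := Matrix.toLin'.injective (show Matrix.toLin' ((φ g : Matrix N N K).map (algebraMap K (AlgebraicClosure K))) =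
    Matrix.toLin' ((φ h : Matrix N N K).map (algebraMap K (AlgebraicClosure K))) from e)
  apply hφ
  apply Units.ext
  ext i j
  exact (algebraMap K (AlgebraicClosure K)).injective (congrFun (congrFun h1 i) j)

theorem no_wt (hφ : Function.Injective φ) {r s a : ℕ} (hr : r.Prime) (hs : s.Prime) (hsK : (s : K) ≠ 0)
    (hna : NonAdj G r s) (ha : 0 < a) (hlt : Fintype.card N < r ^ a) (P : Subgroup G) (hP : Elem s P)
    (x : G) (hx : orderOf x = r ^ a) : x ∉ Subgroup.normalizer (P : Set G) := by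
  intro hn
  have hsL : (s : AlgebraicClosure K) ≠ 0 := by
    intro h1
    apply hsK
    apply (algebraMap K (AlgebraicClosure K)).injective
    rw [map_natCast, map_zero, h1]
  have hxa : x ^ r ^ a = 1 := by rw [← hx]; exact pow_orderOf_eq_one x
  rcases Cfsg.Agent.H728.DghpWt.pow_le_or_comm (rep φ) (rep_injective hφ) hP.2.1 hsL hP.2.2 hr hn hxa ha with h | h
  · rw [Module.finrank_fintype_fun_eq_card] at h
    omega
  · obtain ⟨u, hu, hu1⟩ : ∃ u ∈ P, u ≠ 1 := by
      by_contra h
      push Not at h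
      exact hP.1 ((Subgroup.eq_bot_iff_forall P).2 h)
    have : Fact s.Prime := ⟨hs⟩
    have hus : orderOf u = s := orderOf_eq_prime (hP.2.2 u hu) hu1
    have hxr : orderOf (x ^ r ^ (a - 1)) = r := by
      rw [orderOf_pow, hx, Nat.gcd_eq_right (pow_dvd_pow r (Nat.sub_le a 1)), Nat.pow_div (Nat.sub_le a 1) hr.pos]
      have : a - (a - 1) = 1 := by omega
      rw [this, pow_one]
    exact hna _ u hxr hus (h u hu)

/-- an element of order `r ^ a`, `a > 0`, has a power of order `r` in every subgroup containing it -/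
theorem exists_prime_pow {r a : ℕ} (hr : r.Prime) (ha : 0 < a) {x : G} (hx : orderOf x = r ^ a) (H : Subgroup G)
    (hxH : x ∈ H) : ∃ x' ∈ H, orderOf x' = r := by
  refine ⟨x ^ r ^ (a - 1), pow_mem hxH _, ?_⟩
  rw [orderOf_pow, hx, Nat.gcd_eq_right (pow_dvd_pow r (Nat.sub_le a 1)), Nat.pow_div (Nat.sub_le a 1) hr.pos]
  have : a - (a - 1) = 1 := by omega
  rw [this, pow_one]

/-- **First criterion.** Both primes have cyclic Sylow subgroups. -/
theorem not_solvable_cyc (hφ : Function.Injective φ) {r s : ℕ} (hr : r.Prime) (hs : s.Prime) (hrK : (r : K) ≠ 0)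
    (hsK : (s : K) ≠ 0) (hna : NonAdj G r s) (hrc : ∀ P : Subgroup G, Elem r P → IsCyclic ↥P)
    (hsc : ∀ P : Subgroup G, Elem s P → IsCyclic ↥P)
    (h1 : Fintype.card N < Nat.lcm (orderOf ((Fintype.card K : ℕ) : ZMod r)) s)
    (h2 : Fintype.card N < Nat.lcm (orderOf ((Fintype.card K : ℕ) : ZMod s)) r) (x y : G) (hx : orderOf x = r)
    (hy : orderOf y = s) : ¬ Group.IsSolvable ↥(Subgroup.closure ({x, y} : Set G)) := by
  refine not_solvable_of_norm (a := 1) (b := 1) hr hs one_pos (fun P hP y' hy' => ?_) (fun P hP x' hx' => ?_) x y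
    (by rw [pow_one, hx]) (by rw [pow_one, hy])
  · rw [pow_one] at hy'
    exact no_cyc hφ hr hs hrK hna hrc h1 P hP y' hy'
  · rw [pow_one] at hx'
    exact no_cyc hφ hs hr hsK hna.symm hsc h2 P hP x' hx'

/-- **Second criterion.** -/
theorem not_solvable_wt (hφ : Function.Injective φ) {r s a : ℕ} (hr : r.Prime) (hs : s.Prime) (hrK : (r : K) ≠ 0)
    (hsK : (s : K) ≠ 0) (hna : NonAdj G r s) (hrc : ∀ P : Subgroup G, Elem r P → IsCyclic ↥P) (e : ℕ)
    (he : e = 0 ∨ (e = 1 ∧ ∀ y : G, orderOf y = r → ∃ v : N → K, v ≠ 0 ∧ (φ y : Matrix N N K).mulVec v = v))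
    (h1 : Fintype.card N < Nat.lcm (orderOf ((Fintype.card K : ℕ) : ZMod r)) s + e) (ha : 0 < a)
    (h2 : Fintype.card N < r ^ a) (x y : G) (hx : orderOf x = r ^ a)
    (hy : orderOf y = s) : ¬ Group.IsSolvable ↥(Subgroup.closure ({x, y} : Set G)) := by
  refine not_solvable_of_norm (a := a) (b := 1) hr hs ha (fun P hP y' hy' => ?_) (fun P hP x' hx' => ?_) x y
    hx (by rw [pow_one, hy])
  · rw [pow_one] at hy'
    exact no_cyc_add hφ hr hs hrK hna hrc e he h1 P hP y' hy'
  · exact no_wt hφ hr hs hsK hna ha h2 P hP x' hx'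

end Cfsg.Agent.H728.DghpMat
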