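import Cfsg.Agent.H518.DghpCore
import Cfsg.Agent.H728.DghpMat

/-!
# The arithmetic criterion (helper728)

`G` finite, `r ≠ s` primes, no element of order `r` commutes with one of order `s`.

* `no_cyc` : the elementary abelian `r`-subgroups are cyclic and `s ^ b ∤ r - 1`: none is normalised by an element of
  order `s ^ b`;
* `no_elem` : `r ∤ s ^ k - 1` whenever `s ^ k ∣ |G|`, `k > 0`: no elementary abelian `s`-subgroup is normalised by an
  element of order `r ^ a`;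
* `core` : the two together.
-/

set_option autoImplicit false

namespace Cfsg.Agent.H728.DghpArith

open Cfsg.Agent.H728.DghpLem Cfsg.Agent.H728.DghpMat Cfsg.Agent.H518.Dghp

variable {G : Type*} [Group G] [Finite G] {r s : ℕ}

theorem no_cyc (hr : r.Prime) (hs : s.Prime) (hna : NonAdj G r s)
    (hcyc : ∀ P : Subgroup G, Elem r P → IsCyclic ↥P) {b : ℕ} (hb : 0 < b) (h : ¬ s ^ b ∣ r - 1) (P : Subgroup G)
    (hP : Elem r P) (x : G) (hx : orderOf x = s ^ b) : x ∉ Subgroup.normalizer (P : Set G) := by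
  intro hn
  have : Fact r.Prime := ⟨hr⟩
  have : NeZero r := ⟨hr.ne_zero⟩
  obtain ⟨y, hy, rfl⟩ := hP.eq_zpowers_of_cyclic hr (hcyc P hP)
  have hpow : ∀ i j : ℕ, y ^ i = y ^ j ↔ (i : ZMod r) = j := fun i j => by
    rw [pow_inj_mod, hy, ZMod.natCast_eq_natCast_iff']
  obtain ⟨n, hn'⟩ := (Subgroup.mem_normalizer_iff.1 hn y).1 (Subgroup.mem_zpowers y)
  obtain ⟨c, hc⟩ : ∃ c : ℕ, x * y * x⁻¹ = y ^ c := by
    refine ⟨(n % r).toNat, ?_⟩
    have h1 : 0 ≤ n % r := Int.emod_nonneg _ (by exact_mod_cast hr.ne_zero)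
    have hn'' : y ^ n = x * y * x⁻¹ := hn'
    rw [← hn'', ← zpow_natCast, Int.toNat_of_nonneg h1, ← hy, zpow_mod_orderOf]
  have hiter : ∀ k : ℕ, x ^ k * y * (x ^ k)⁻¹ = y ^ (c ^ k) := by
    intro k
    induction k with
    | zero => simp
    | succ k ih =>
      have e : x ^ (k + 1) * y * (x ^ (k + 1))⁻¹ = x * (x ^ k * y * (x ^ k)⁻¹) * x⁻¹ := by
        rw [pow_succ']; group
      rw [e, ih]
      have e2 : x * y ^ (c ^ k) * x⁻¹ = (x * y * x⁻¹) ^ (c ^ k) := conj_pow.symm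
      rw [e2, hc, ← pow_mul, pow_succ']
  have hcs : (c : ZMod r) ^ s ^ b = 1 := by
    have h1 := hiter (s ^ b)
    rw [← hx, pow_orderOf_eq_one, hx] at h1
    have h2 : y ^ (c ^ s ^ b) = y ^ 1 := by rw [← h1]; simp
    rw [hpow] at h2
    push_cast at h2
    exact h2
  -- the order of `c`
  obtain ⟨j, hj, hjo⟩ := (Nat.dvd_prime_pow hs).1 (orderOf_dvd_of_pow_eq_one hcs)
  have hc0 : (c : ZMod r) ≠ 0 := by
    intro h0
    rw [h0, zero_pow (pow_pos hs.pos b).ne'] at hcs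
    exact zero_ne_one hcs
  have hjr : s ^ j ∣ r - 1 := by
    rw [← hjo]
    exact orderOf_dvd_of_pow_eq_one (ZMod.pow_card_sub_one_eq_one hc0)
  have hjb : j < b := by
    rcases Nat.lt_or_ge j b with h1 | h1
    · exact h1
    · exact absurd ((pow_dvd_pow s h1).trans hjr) h
  have hcb : (c : ZMod r) ^ s ^ (b - 1) = 1 := by
    rw [← orderOf_dvd_iff_pow_eq_one, hjo]
    exact pow_dvd_pow s (by omega)
  have h3 : x ^ s ^ (b - 1) * y * (x ^ s ^ (b - 1))⁻¹ = y := by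
    rw [hiter]
    have h4 : y ^ (c ^ s ^ (b - 1)) = y ^ 1 := by
      rw [hpow]
      push_cast
      exact hcb
    rw [h4, pow_one]
  have hxs : orderOf (x ^ s ^ (b - 1)) = s := by
    rw [orderOf_pow, hx, Nat.gcd_eq_right (pow_dvd_pow s (Nat.sub_le b 1)), Nat.pow_div (Nat.sub_le b 1) hs.pos]
    have : b - (b - 1) = 1 := by omega
    rw [this, pow_one]
  refine hna y _ hy hxs ?_
  have h5 : x ^ s ^ (b - 1) * y = y * x ^ s ^ (b - 1) := by
    conv_rhs => rw [← h3]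
    group
  exact h5.symm

theorem no_elem_one (hr : r.Prime) (hs : s.Prime) (hna : NonAdj G r s) (P : Subgroup G) (hP : Elem s P)
    (h : ∀ k, 0 < k → Nat.card ↥P = s ^ k → ¬ r ∣ s ^ k - 1) (x : G)
    (hx : orderOf x = r) : x ∉ Subgroup.normalizer (P : Set G) := by
  intro hn
  have : Fact r.Prime := ⟨hr⟩
  have : Fact s.Prime := ⟨hs⟩
  have hPg : IsPGroup s ↥P := fun u => ⟨1, by
    rw [pow_one]
    exact Subtype.ext (hP.2.2 u.1 u.2)⟩
  obtain ⟨k, hk⟩ := IsPGroup.iff_card.1 hPg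
  have hk0 : 0 < k := by
    rcases Nat.eq_zero_or_pos k with rfl | h0
    · rw [pow_zero] at hk
      exact absurd (Subgroup.eq_bot_of_card_eq P hk) hP.1
    · exact h0
  -- the action of `⟨x⟩` on `P`
  have hxn : Subgroup.zpowers x ≤ Subgroup.normalizer (P : Set G) := by rwa [Subgroup.zpowers_le]
  let act : MulAction ↥(Subgroup.zpowers x) ↥P :=
    { smul := fun g u => ⟨g.1 * u.1 * g.1⁻¹, (Subgroup.mem_normalizer_iff.1 (hxn g.2) u.1).1 u.2⟩
      one_smul := fun u => Subtype.ext (by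
        show (1 : G) * u.1 * (1 : G)⁻¹ = u.1
        group)
      mul_smul := fun g g' u => Subtype.ext (by
        show (g.1 * g'.1) * u.1 * (g.1 * g'.1)⁻¹ = g.1 * (g'.1 * u.1 * g'.1⁻¹) * g.1⁻¹
        group) }
  have hpg : IsPGroup r ↥(Subgroup.zpowers x) := IsPGroup.of_card (n := 1) (by
    rw [Nat.card_zpowers, hx, pow_one])
  have h1 := hpg.card_modEq_card_fixedPoints ↥P
  by_cases h2 : Nat.card ↑(MulAction.fixedPoints ↥(Subgroup.zpowers x) ↥P) = 1
  · rw [h2, hk] at h1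
    apply h k hk0 hk
    exact (Nat.modEq_iff_dvd' (Nat.one_le_pow _ _ hs.pos)).1 h1.symm
  · have h3 : ∃ u : ↥P, u ∈ MulAction.fixedPoints ↥(Subgroup.zpowers x) ↥P ∧ u ≠ 1 := by
      by_contra hno
      push Not at hno
      apply h2
      have h4 : MulAction.fixedPoints ↥(Subgroup.zpowers x) ↥P = {1} := by
        ext u
        constructor
        · exact fun hu => hno u hu
        · rintro rfl
          intro g
          exact Subtype.ext (by
            show g.1 * (1 : G) * g.1⁻¹ = 1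
            group)
      rw [h4]
      exact Nat.card_unique
    obtain ⟨u, hu, hu1⟩ := h3
    have hu1' : u.1 ≠ 1 := fun h5 => hu1 (Subtype.ext h5)
    have hus : orderOf u.1 = s := orderOf_eq_prime (hP.2.2 u.1 u.2) hu1'
    refine hna x u.1 hx hus ?_
    have h6 := hu ⟨x, Subgroup.mem_zpowers x⟩
    have h7 : x * u.1 * x⁻¹ = u.1 := congrArg Subtype.val h6
    calc x * u.1 = x * u.1 * x⁻¹ * x := by group
      _ = u.1 * x := by rw [h7]

theorem no_elem' (hr : r.Prime) (hs : s.Prime) (hna : NonAdj G r s) {a : ℕ} (ha : 0 < a) (P : Subgroup G)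
    (hP : Elem s P) (h : ∀ k, 0 < k → Nat.card ↥P = s ^ k → ¬ r ∣ s ^ k - 1) (x : G)
    (hx : orderOf x = r ^ a) : x ∉ Subgroup.normalizer (P : Set G) := by
  intro hn
  obtain ⟨x', hx', hx'r⟩ := exists_prime_pow hr ha hx _ hn
  exact no_elem_one hr hs hna P hP h x' hx'r hx'

theorem no_elem (hr : r.Prime) (hs : s.Prime) (hna : NonAdj G r s) {a : ℕ} (ha : 0 < a)
    (h : ∀ k, 0 < k → s ^ k ∣ Nat.card G → ¬ r ∣ s ^ k - 1) (P : Subgroup G) (hP : Elem s P) (x : G)
    (hx : orderOf x = r ^ a) : x ∉ Subgroup.normalizer (P : Set G) :=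
  no_elem' hr hs hna ha P hP (fun k hk hc => h k hk (hc ▸ Subgroup.card_subgroup_dvd_card P)) x hx

/-- **The arithmetic criterion.** `r ≠ s` primes which are not adjacent in the prime graph of `G`, the elementary
abelian `r`-subgroups are cyclic, `s ^ b ∤ r - 1`, `r ∤ s ^ k - 1` for `s ^ k ∣ |G|`. -/
theorem core (hr : r.Prime) (hs : s.Prime) (hrs : r ≠ s) (hna : NonAdj G r s)
    (hcyc : ∀ P : Subgroup G, Elem r P → IsCyclic ↥P) {a b : ℕ} (ha : 0 < a) (hb : 0 < b) (h1 : ¬ s ^ b ∣ r - 1)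
    (h2 : ∀ k, 0 < k → s ^ k ∣ Nat.card G → ¬ r ∣ s ^ k - 1)
    (hx : ∃ x : G, orderOf x = r ^ a) (hy : ∃ y : G, orderOf y = s ^ b) : Core G :=
  ⟨r, s, a, b, hr, hs, hrs, ha, hb, hx, hy, fun x y hx hy =>
    not_solvable_of_norm hr hs ha (fun P hP y' hy' => no_cyc hr hs hna hcyc hb h1 P hP y' hy')
      (fun P hP x' hx' => no_elem hr hs hna ha h2 P hP x' hx') x y hx hy⟩

/-- if `r² ∤ |G|` the `r`-subgroups are cyclic -/
theorem cyclic_of_not_sq (hr : r.Prime) (h : ¬ r ^ 2 ∣ Nat.card G) (P : Subgroup G) (hP : Elem r P) : IsCyclic ↥P := by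
  have : Fact r.Prime := ⟨hr⟩
  have hPg : IsPGroup r ↥P := fun u => ⟨1, by
    rw [pow_one]
    exact Subtype.ext (hP.2.2 u.1 u.2)⟩
  obtain ⟨k, hk⟩ := IsPGroup.iff_card.1 hPg
  have hk1 : k < 2 := by
    by_contra h1
    push Not at h1
    exact h (((pow_dvd_pow r h1).trans (by rw [hk])).trans (Subgroup.card_subgroup_dvd_card P))
  interval_cases k
  · have : Subsingleton ↥P := by
      rw [Subgroup.eq_bot_of_card_eq P hk]
      infer_instance
    exact isCyclic_of_subsingleton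
  · exact isCyclic_of_prime_card (p := r) (by rw [hk, pow_one])

/-- **The arithmetic criterion for primes.** -/
theorem core_primes (hr : r.Prime) (hs : s.Prime) (hrs : r ≠ s) (hna : NonAdj G r s) (hrG : r ∣ Nat.card G)
    (hr2 : ¬ r ^ 2 ∣ Nat.card G) (hsG : s ∣ Nat.card G) (h1 : ¬ s ∣ r - 1)
    (h2 : ∀ k, 0 < k → s ^ k ∣ Nat.card G → ¬ r ∣ s ^ k - 1) : Core G := by
  have : Fact r.Prime := ⟨hr⟩
  have : Fact s.Prime := ⟨hs⟩
  obtain ⟨x, hx⟩ := exists_prime_orderOf_dvd_card' r hrG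
  obtain ⟨y, hy⟩ := exists_prime_orderOf_dvd_card' s hsG
  exact core hr hs hrs hna (cyclic_of_not_sq hr hr2) one_pos one_pos (by rwa [pow_one]) h2
    ⟨x, by rw [hx, pow_one]⟩ ⟨y, by rw [hy, pow_one]⟩

end Cfsg.Agent.H728.DghpArith
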