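import Cfsg.Agent.H518.DghpCore
import Cfsg.Agent.H728.DghpMat
import Cfsg.Agent.H728.DghpNum

/-!
# Rows from matrices (helper728)
-/

set_option autoImplicit false

namespace Cfsg.Agent.H728.DghpRow

open Cfsg.Agent.H728.DghpLem Cfsg.Agent.H728.DghpMat Cfsg.Agent.H728.DghpNum Cfsg.Agent.H518.Dghp

variable {G : Type*} [Group G] [Finite G] {K : Type*} [Field K] [Fintype K] {N : Type*} [Fintype N] [DecidableEq N]
  {φ : G →* GL N K}

theorem Ppd.ne {q e f r s : ℕ} (hr : Ppd q e r) (hs : Ppd q f s) (hef : e ≠ f) : r ≠ s := by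
  rintro rfl
  exact hef (hr.ord.symm.trans hs.ord)

theorem exists_order {r : ℕ} (hr : r.Prime) (h : r ∣ Nat.card G) : ∃ x : G, orderOf x = r ^ 1 := by
  have : Fact r.Prime := ⟨hr⟩
  obtain ⟨x, hx⟩ := exists_prime_orderOf_dvd_card' r h
  exact ⟨x, by rw [hx, pow_one]⟩

/-- **Row with two cyclic primes.** -/
theorem core_cyc (hφ : Function.Injective φ) {q k e f r s : ℕ} (hK : Fintype.card K = q ^ k) (hk : k ≠ 0)
    (hr : Ppd q e r) (hs : Ppd q f s) (hrG : r ∣ Nat.card G) (hsG : s ∣ Nat.card G) (hef : e ≠ f)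
    (hna : NonAdj G r s) (hrc : ∀ P : Subgroup G, Elem r P → IsCyclic ↥P)
    (hsc : ∀ P : Subgroup G, Elem s P → IsCyclic ↥P)
    (h1 : Fintype.card N < Nat.lcm (e / Nat.gcd e k) s) (h2 : Fintype.card N < Nat.lcm (f / Nat.gcd f k) r) :
    Core G := by
  have hrs := Ppd.ne hr hs hef
  refine ⟨r, s, 1, 1, hr.prime, hs.prime, hrs, one_pos, one_pos, exists_order hr.prime hrG, exists_order hs.prime hsG,
    fun x y hx hy => ?_⟩
  rw [pow_one] at hx hy
  refine not_solvable_cyc hφ hr.prime hs.prime (hr.natCast_ne hK) (hs.natCast_ne hK) hna hrc hsc ?_ ?_ x y hx hy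
  · rw [hK, (hr.pow k hk).ord]
    exact h1
  · rw [hK, (hs.pow k hk).ord]
    exact h2

/-- **Row with one cyclic prime `r` and an element of order `r ^ a` larger than the dimension.** -/
theorem core_wt (hφ : Function.Injective φ) {q k e f r s : ℕ} (hK : Fintype.card K = q ^ k) (hk : k ≠ 0)
    (hr : Ppd q e r) (hs : Ppd q f s) (hsG : s ∣ Nat.card G) (hef : e ≠ f)
    (hna : NonAdj G r s) (hrc : ∀ P : Subgroup G, Elem r P → IsCyclic ↥P)
    (h1 : Fintype.card N < Nat.lcm (e / Nat.gcd e k) s) {a : ℕ} (ha : 0 < a) (h2 : Fintype.card N < r ^ a)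
    (hx : ∃ x : G, orderOf x = r ^ a) : Core G := by
  have hrs := Ppd.ne hr hs hef
  refine ⟨r, s, a, 1, hr.prime, hs.prime, hrs, ha, one_pos, hx, exists_order hs.prime hsG,
    fun x y hx hy => ?_⟩
  rw [pow_one] at hy
  refine not_solvable_wt hφ hr.prime hs.prime (hr.natCast_ne hK) (hs.natCast_ne hK) hna hrc 0 (Or.inl rfl) ?_ ha h2
    x y hx hy
  rw [hK, (hr.pow k hk).ord, add_zero]
  exact h1

omit [Finite G] in
/-- Non-adjacency from the order of the centralisers. -/
theorem nonAdj_of_card {r s : ℕ} (h : ∀ x : G, orderOf x = r → ¬ s ∣ Nat.card ↥(Subgroup.centralizer {x})) :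
    NonAdj G r s := by
  intro x y hx hy e
  apply h x hx
  have h1 : y ∈ Subgroup.centralizer {x} := by
    rw [Subgroup.mem_centralizer_singleton_iff]
    exact e.symm
  have h2 : orderOf (⟨y, h1⟩ : ↥(Subgroup.centralizer {x})) ∣ Nat.card ↥(Subgroup.centralizer {x}) :=
    orderOf_dvd_natCard _
  rwa [Subgroup.orderOf_mk, hy] at h2

omit [Finite G] in
/-- Non-adjacency passes to subgroups. -/
theorem NonAdj.of_injective {G' : Type*} [Group G'] {r s : ℕ} (h : NonAdj G' r s) {f : G →* G'}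
    (hf : Function.Injective f) : NonAdj G r s := by
  intro x y hx hy e
  refine h (f x) (f y) (by rw [orderOf_injective f hf, hx]) (by rw [orderOf_injective f hf, hy]) ?_
  rw [← map_mul, e, map_mul]

omit [Finite G] in
/-- Cyclicity of the elementary abelian subgroups passes to subgroups. -/
theorem elem_cyclic_of_injective {G' : Type*} [Group G'] {r : ℕ} (h : ∀ P : Subgroup G', Elem r P → IsCyclic ↥P)
    {f : G →* G'} (hf : Function.Injective f) (P : Subgroup G) (hP : Elem r P) : IsCyclic ↥P := by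
  have h1 : Elem r (P.map f) := by
    refine ⟨?_, ?_, ?_⟩
    · intro h2
      apply hP.1
      rw [Subgroup.map_eq_bot_iff, (MonoidHom.ker_eq_bot_iff f).2 hf, le_bot_iff] at h2
      exact h2
    · rintro _ ⟨a, ha, rfl⟩ _ ⟨b, hb, rfl⟩
      rw [← map_mul, hP.2.1 a ha b hb, map_mul]
    · rintro _ ⟨a, ha, rfl⟩
      rw [← map_pow, hP.2.2 a ha, map_one]
  have h2 := h _ h1
  exact isCyclic_of_injective (P.equivMapOfInjective f hf).toMonoidHom (P.equivMapOfInjective f hf).injective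

end Cfsg.Agent.H728.DghpRow
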