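import Cfsg.Agent.H728.DghpLem
import Cfsg.Agent.LieRecognition.FT61.Grp

/-!
# Cyclic subgroups containing a Sylow subgroup (helper728)
-/

set_option autoImplicit false

namespace Cfsg.Agent.H728.DghpSyl

open Cfsg.Agent.H728.DghpLem
open scoped Pointwise

variable {G : Type*} [Group G] [Finite G] {r : ℕ} {H : Subgroup G}

/-- every `r`-subgroup is conjugate into `H` -/
theorem exists_conj_le (hr : r.Prime) (hind : ¬ r ∣ H.index) {Q : Subgroup G} (hQ : IsPGroup r ↥Q) :
    ∃ g : G, Q.map (MulAut.conj g).toMonoidHom ≤ H := by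
  have : Fact r.Prime := ⟨hr⟩
  obtain ⟨S⟩ : Nonempty (Sylow r ↥H) := inferInstance
  have hcard : Nat.card ↥((S : Subgroup ↥H).map H.subtype) = r ^ (Nat.card G).factorization r := by
    rw [Subgroup.card_map_of_injective H.subtype_injective, S.card_eq_multiplicity,
      ← Subgroup.card_mul_index H, Nat.factorization_mul Nat.card_pos.ne' Subgroup.index_ne_zero_of_finite,
      Finsupp.add_apply, Nat.factorization_eq_zero_of_not_dvd hind, add_zero]
  let P : Sylow r G := Sylow.ofCard _ hcard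
  obtain ⟨Q', hQ'⟩ := hQ.exists_le_sylow
  obtain ⟨g, hg⟩ := MulAction.exists_smul_eq G Q' P
  refine ⟨g, ?_⟩
  rintro _ ⟨y, hy, rfl⟩
  have h1 : MulAut.conj g • y ∈ MulAut.conj g • (Q' : Subgroup G) :=
    Subgroup.smul_mem_pointwise_smul y _ _ (hQ' hy)
  rw [← Sylow.coe_subgroup_smul, hg] at h1
  obtain ⟨s, -, hs⟩ := h1
  show MulAut.conj g • y ∈ H
  rw [← hs]
  exact s.2

omit [Finite G] in
/-- the centraliser of a conjugate -/
theorem card_centralizer_conj (g y : G) :
    Nat.card ↥(Subgroup.centralizer {g * y * g⁻¹}) = Nat.card ↥(Subgroup.centralizer {y}) := by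
  have h1 : Subgroup.centralizer {g * y * g⁻¹} = (Subgroup.centralizer {y}).map (MulAut.conj g).toMonoidHom := by
    ext c
    rw [Subgroup.mem_centralizer_singleton_iff]
    constructor
    · intro h
      refine ⟨g⁻¹ * c * g, ?_, by show g * (g⁻¹ * c * g) * g⁻¹ = c; group⟩
      show g⁻¹ * c * g ∈ Subgroup.centralizer {y}
      rw [Subgroup.mem_centralizer_singleton_iff]
      have e1 : g⁻¹ * c * g * y = g⁻¹ * (c * (g * y * g⁻¹)) * g := by group
      rw [e1, h]
      group
    · rintro ⟨b, hb, rfl⟩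
      have hb' : b * y = y * b := Subgroup.mem_centralizer_singleton_iff.1 hb
      show g * b * g⁻¹ * (g * y * g⁻¹) = g * y * g⁻¹ * (g * b * g⁻¹)
      calc g * b * g⁻¹ * (g * y * g⁻¹) = g * (b * y) * g⁻¹ := by group
        _ = g * (y * b) * g⁻¹ := by rw [hb']
        _ = _ := by group
  rw [h1]
  exact (Nat.card_congr ((Subgroup.centralizer {y}).equivMapOfInjective _ (MulAut.conj g).injective).toEquiv).symm

omit [Finite G] in
theorem centralizer_zpowers_eq {x y : G} (h : Subgroup.zpowers x = Subgroup.zpowers y) :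
    Subgroup.centralizer {x} = Subgroup.centralizer {y} := by
  rw [← Subgroup.centralizer_closure {x}, ← Subgroup.centralizer_closure {y}, ← Subgroup.zpowers_eq_closure,
    ← Subgroup.zpowers_eq_closure, h]

/-- **All elements of order `r` have centralisers of the same order.** -/
theorem card_centralizer_eq (hr : r.Prime) (hc : IsCyclic ↥H) (hind : ¬ r ∣ H.index) {x y : G} (hx : x ∈ H)
    (hxr : orderOf x = r) (hyr : orderOf y = r) :
    Nat.card ↥(Subgroup.centralizer {y}) = Nat.card ↥(Subgroup.centralizer {x}) := by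
  have : Fact r.Prime := ⟨hr⟩
  have hQ : IsPGroup r ↥(Subgroup.zpowers y) := IsPGroup.of_card (n := 1) (by
    rw [Nat.card_zpowers, hyr, pow_one])
  obtain ⟨g, hg⟩ := exists_conj_le hr hind hQ
  have h1 : g * y * g⁻¹ ∈ H := hg ⟨y, Subgroup.mem_zpowers y, rfl⟩
  have h2 : orderOf (g * y * g⁻¹) = r := by
    have e : g * y * g⁻¹ = MulAut.conj g y := rfl
    rw [e, ← hyr]
    exact orderOf_injective (MulAut.conj g).toMonoidHom (MulAut.conj g).injective y
  have h3 := LieRecognition.FT61.Grp.zpowers_eq_of_orderOf hc h1 hx (h2.trans hxr.symm)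
  rw [← card_centralizer_conj g y, centralizer_zpowers_eq h3]

/-- **The `r`-subgroups are cyclic.** -/
theorem elem_cyclic (hr : r.Prime) (hc : IsCyclic ↥H) (hind : ¬ r ∣ H.index) (P : Subgroup G) (hP : Elem r P) :
    IsCyclic ↥P := by
  have hPg : IsPGroup r ↥P := fun u => ⟨1, by
    rw [pow_one]
    exact Subtype.ext (hP.2.2 u.1 u.2)⟩
  obtain ⟨g, hg⟩ := exists_conj_le hr hind hPg
  have h1 : IsCyclic ↥(P.map (MulAut.conj g).toMonoidHom) :=
    isCyclic_of_injective (Subgroup.inclusion hg) (Subgroup.inclusion_injective hg)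
  let e := P.equivMapOfInjective (MulAut.conj g).toMonoidHom (MulAut.conj g).injective
  exact isCyclic_of_injective e.toMonoidHom e.injective

/-- elements of every order dividing `|H|` -/
theorem exists_order_of_dvd (hc : IsCyclic ↥H) {n : ℕ} (hn : n ∣ Nat.card ↥H) : ∃ x : G, orderOf x = n := by
  obtain ⟨g, hg⟩ := hc.exists_ofOrder_eq_natCard
  obtain ⟨m, hm⟩ := hn
  have hm0 : m ≠ 0 := by
    rintro rfl
    rw [mul_zero] at hm
    exact Nat.card_pos.ne' hm
  refine ⟨(g : G) ^ m, ?_⟩
  rw [orderOf_pow' _ hm0, Subgroup.orderOf_coe, hg, hm, Nat.gcd_eq_right (Dvd.intro_left n rfl),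
    Nat.mul_div_cancel n (Nat.pos_of_ne_zero hm0)]

end Cfsg.Agent.H728.DghpSyl
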