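import Cfsg.Agent.H728.DghpTorTw
import Cfsg.Agent.H728.DghpSyl
import Cfsg.Agent.H728.DghpArith
import Cfsg.Agent.H728.DghpTwelve
import Cfsg.Agent.H728.DghpRow
import Cfsg.Agent.H129.TwD4Cyc
import Cfsg.Agent.S1067

/-!
# The row ³D₄ (helper728)
-/

set_option autoImplicit false

namespace Cfsg.Agent.H728.DghpTwD

open Cfsg.Agent.H728.DghpLem Cfsg.Agent.H728.DghpMat Cfsg.Agent.H728.DghpNum Cfsg.Agent.H728.DghpRow
  Cfsg.Agent.H518.Dghp Cfsg.Agent.H728.DghpTwelve Cfsg.Agent.H728.DghpTorTw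
open Cfsg Cfsg.Lie Cfsg.Agent.H129 Cfsg.Agent.Nodes Cfsg.Agent.Nodes.RGDChev Cfsg.Agent.H129.TorusTw
  Cfsg.Agent.H129.TorusMain Cfsg.Agent.Tits.Roots Cfsg.Agent.H129.TorusUntw Cfsg.Agent.H129.TriD4
  Cfsg.Agent.ChevalleyStructure.CoxeterGeom Cfsg.Agent.H129.TwD4Cyc

/-- **Elements of prime order in cyclic tori of `³D₄(q)`**. -/
theorem tri_regular {K : Type*} [Field K] [Fintype K] {q : ℕ} (hq : IsPrimePow q) (hK : Fintype.card K = q ^ 3)
    {A : WData.Mat 4} (hA : ∀ i j, A i j = ChevalleyStructure.CoxeterGeomTypes.cartanOf chevD4 4 i j)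
    {L : List (Fin 4 × WData.Mat 4)} (hL : WData.ChainOK A L) {Th : WData.Mat 4}
    (hT : ∀ j, WData.hd L ((![2, 1, 3, 0] : Fin 4 → Fin 4) j) = Th j)
    {V B : WData.Mat 4} {c : Fin 4 → ℤ} (hcyc : WData.CycOK 4 Th V B c) {m : ℕ} {R : Fin m → Fin 4 → ℤ}
    {prv dep : ℕ → ℕ} (hR : WData.RootOK chevD4 4 Th R prv dep) {N r : ℕ} (hfN : fN c (q : ℤ) = N)
    (hqN : q.Coprime N) (hr : r.Prime) (hr2 : r ≠ 2) (hr3 : r ≠ 3) (hrN : r ∣ N)
    (hG : ∀ s, ¬ (r : ℤ) ∣ Gq B (q : ℤ) (R s)) :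
    ∃ x : ↥(twistedD4 K q), ∃ H : Subgroup ↥(twistedD4 K q), x ∈ H ∧ orderOf x = r ∧ IsCyclic ↥H ∧ Nat.card ↥H = N ∧
      Subgroup.centralizer {x} = H := by
  obtain ⟨p, e', hpF, hpc, hpk, -, hpe, hk⟩ := exists_closure hK
  obtain ⟨p', e, hp', he, hqe'⟩ := id hq
  have hpp : p' = p := by
    have h1 : p' ∣ p ^ e' := by
      rw [← hpe, ← hqe']
      exact dvd_pow (dvd_pow_self p' he.ne') (by norm_num)
    exact (Nat.prime_dvd_prime_iff_eq hp'.nat_prime hpF.out).1 (hp'.nat_prime.dvd_of_dvd_pow h1)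
  subst hpp
  have hqe : q = p' ^ e := hqe'.symm
  have hpN : ¬ p' ∣ N := fun h1 => by
    have h2 : p' ∣ Nat.gcd q N := Nat.dvd_gcd (by rw [hqe]; exact dvd_pow_self p' he.ne') h1
    rw [hqN] at h2
    exact hpF.out.one_lt.ne' (Nat.dvd_one.1 h2)
  have hlin := lin_tri coxeterD4.toCoxeterSystem hA hL hT
  have hc := WData.cyc_of hlin hcyc
  have hnot := fun {a : Fin 4 → ℤ} (ha : IsRoot coxeterD4.toCoxeterSystem RGDTwD4.hp.isCartan a) =>
    WData.not_dvd_G RGDTwD4.hp coxeterD4.toCoxeterSystem hlin hc hR hfN hr hrN hqN hG ha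
  refine exists_regular (k := AlgebraicClosure K) RGDTwD4.hp coxeterD4.toCoxeterSystem (by norm_num) hk
    (hN := nsys_of_locFin RGDTwD4.hp coxeterD4.toCoxeterSystem hk p') he isFrob_tau
    (fr_tau coxeterD4.toCoxeterSystem) TorusChar.invC_D4 (by norm_num)
    (coxeterD4.toCoxeterSystem.wordProd (L.map Prod.fst)) hc (N := N) (r := r)
    (by rw [← hqe]; exact hfN) hpN
    (e0 := embT (algebraMap K (AlgebraicClosure K)) hq hK) (embT_injective _ hq hK)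
    (tau_embT _ hqe hq hK) hr (not_dvd_W hr hr2 hr3) hrN ?_ ?_
  · rw [← hqe]
    exact fun a ha => hnot ha
  · intro n z t u hn hz ht hτ _ _ s hs
    exact tau_range _ hqe hq hK (conj_fixed hz hτ hs)

theorem regular {K : Type*} [Field K] [Fintype K] {q : ℕ} (hq : IsPrimePow q) (hK : Fintype.card K = q ^ 3) {r : ℕ}
    (hr : Ppd q 12 r) (hrq : r ∣ q ^ 4 - q ^ 2 + 1) :
    ∃ x : ↥(twistedD4 K q), ∃ H : Subgroup ↥(twistedD4 K q), x ∈ H ∧ orderOf x = r ∧ IsCyclic ↥H ∧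
      Nat.card ↥H = q ^ 4 - q ^ 2 + 1 ∧ Subgroup.centralizer {x} = H := by
  have h0 : q ^ 2 ≤ q ^ 4 := Nat.pow_le_pow_right hq.pos (by norm_num)
  have hN : ((q ^ 4 - q ^ 2 + 1 : ℕ) : ℤ) = 1 - (q : ℤ) ^ 2 + (q : ℤ) ^ 4 := by
    push_cast [Nat.cast_sub h0]; ring
  have hrq' : (r : ℤ) ∣ 1 - (q : ℤ) ^ 2 + (q : ℤ) ^ 4 := by
    rw [← hN]
    exact Int.natCast_dvd_natCast.2 hrq
  have hlt := hr.lt
  refine tri_regular hq hK DataD4C.hA DataD4C.chainOK DataD4C.hd_pi DataD4C.cycOK DataD4C.rootOK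
    (by rw [DataD4C.fN_eq, hN]) ?_ hr.prime (by omega) (by omega) hrq ?_
  · exact UntwData.coprime_of_eq (a := -(q : ℤ) + (q : ℤ) ^ 3) (by rw [hN]; ring)
  · intro s hs
    have h2 := DataD4C.dvd_of_G hrq' s hs
    exact hr.prime.one_lt.ne' (Nat.dvd_one.1 (by exact_mod_cast h2))

/-- the order of the group -/
theorem card_eq {K : Type*} [Field K] [Fintype K] {q : ℕ} (hq : IsPrimePow q) (hK : Fintype.card K = q ^ 3) :
    Nat.card ↥(twistedD4 K q) = (q ^ 4 - q ^ 2 + 1) * (q ^ 12 * (q ^ 2 - 1) * (q ^ 6 - 1) * (q ^ 4 + q ^ 2 + 1)) := by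
  rw [S1067.result hq hK]
  have h0 : q ^ 2 ≤ q ^ 4 := Nat.pow_le_pow_right hq.pos (by norm_num)
  have h1 : q ^ 8 + q ^ 4 + 1 = (q ^ 4 - q ^ 2 + 1) * (q ^ 4 + q ^ 2 + 1) := by
    zify [h0]
    ring
  rw [h1]
  ring

theorem not_dvd_rest {q r : ℕ} (hq : 1 ≤ q) (hr : Ppd q 12 r) :
    ¬ r ∣ q ^ 12 * (q ^ 2 - 1) * (q ^ 6 - 1) * (q ^ 4 + q ^ 2 + 1) := by
  intro h
  have h6 : ¬ r ∣ q ^ 6 - 1 := fun h1 => absurd ((hr.dvd_iff 6).1 h1) (by norm_num)
  rcases (Nat.Prime.dvd_mul hr.prime).1 h with h | h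
  · rcases (Nat.Prime.dvd_mul hr.prime).1 h with h | h
    · rcases (Nat.Prime.dvd_mul hr.prime).1 h with h | h
      · exact hr.ndvd (hr.prime.dvd_of_dvd_pow h)
      · exact absurd ((hr.dvd_iff 2).1 h) (by norm_num)
    · exact h6 h
  · apply h6
    have h1 : q ^ 6 - 1 = (q ^ 4 + q ^ 2 + 1) * (q ^ 2 - 1) := by
      have h2 : 1 ≤ q ^ 2 := Nat.one_le_pow _ _ hq
      have h3 : 1 ≤ q ^ 6 := Nat.one_le_pow _ _ hq
      zify [h2, h3]
      ring
    rw [h1]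
    exact h.mul_right _

/-- centralisers, Sylow subgroups -/
theorem facts {K : Type*} [Field K] [Fintype K] {q : ℕ} (hq : IsPrimePow q) (hK : Fintype.card K = q ^ 3) {r : ℕ}
    (hr : Ppd q 12 r) (hrq : r ∣ q ^ 4 - q ^ 2 + 1) :
    (∀ y : ↥(twistedD4 K q), orderOf y = r → Nat.card ↥(Subgroup.centralizer {y}) = q ^ 4 - q ^ 2 + 1) ∧
    (∀ P : Subgroup ↥(twistedD4 K q), Elem r P → IsCyclic ↥P) ∧
    (∀ n, n ∣ q ^ 4 - q ^ 2 + 1 → ∃ y : ↥(twistedD4 K q), orderOf y = n) := by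
  obtain ⟨x, H, hxH, hxr, hHc, hHN, hC⟩ := regular hq hK hr hrq
  have hind : ¬ r ∣ H.index := by
    intro h
    apply not_dvd_rest hq.pos hr
    have h1 := Subgroup.card_mul_index H
    rw [hHN, card_eq hq hK] at h1
    have h2 := Nat.eq_of_mul_eq_mul_left (Nat.succ_pos _) h1
    rwa [← h2]
  refine ⟨fun y hy => ?_, fun P hP => DghpSyl.elem_cyclic hr.prime hHc hind P hP, fun n hn =>
    DghpSyl.exists_order_of_dvd hHc (by rw [hHN]; exact hn)⟩
  rw [DghpSyl.card_centralizer_eq hr.prime hHc hind hxH hxr hy, hC, hHN]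

theorem nonAdj {K : Type*} [Field K] [Fintype K] {q : ℕ} (hq : IsPrimePow q) (hK : Fintype.card K = q ^ 3) {r : ℕ}
    (hr : Ppd q 12 r) (hrq : r ∣ q ^ 4 - q ^ 2 + 1) {s f : ℕ} (hs : Ppd q f s) (hf : f ≠ 12) :
    NonAdj ↥(twistedD4 K q) r s := by
  refine nonAdj_of_card fun x hx h1 => ?_
  rw [(facts hq hK hr hrq).1 x hx] at h1
  exact hf (hs.ord.symm.trans (ppd_of_dvd hs.prime h1).ord)

/-- the choice of the second prime -/
theorem exists_second {q : ℕ} (hq : 3 ≤ q) : ∃ f s : ℕ, Ppd q f s ∧ (f = 3 ∨ f = 6) ∧ 13 ≤ s := by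
  obtain ⟨s, hs⟩ := exists_ppd (q := q) (e := 3) (by omega) (by norm_num) (by omega)
  have hs1 : 7 ≤ s := hs.le_of (by decide)
  by_cases h7 : s = 7
  · obtain ⟨t, ht⟩ := exists_ppd (q := q) (e := 6) (by omega) (by norm_num) (by omega)
    have ht1 : 7 ≤ t := ht.le_of (by decide)
    have ht7 : t ≠ 7 := by
      rintro rfl
      subst h7
      have := hs.ord.symm.trans ht.ord
      omega
    refine ⟨6, t, ht, Or.inr rfl, ?_⟩
    by_contra h1
    push Not at h1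
    have h2 := ht.dvd_pred
    have h3 := ht.prime
    interval_cases t <;> first | omega | (revert h3; decide)
  · refine ⟨3, s, hs, Or.inl rfl, ?_⟩
    by_contra h1
    push Not at h1
    have h2 := hs.dvd_pred
    have h3 := hs.prime
    interval_cases s <;> first | omega | (revert h3; decide)

theorem row_big {K : Type*} [Field K] [Fintype K] {q : ℕ} (hq : IsPrimePow q) (hK : Fintype.card K = q ^ 3)
    (h3 : 3 ≤ q) : Core ↥(twistedD4 K q) := by
  obtain ⟨r, a, hr, ha, hra, hrdvd⟩ := exists_big h3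
  obtain ⟨f, s, hs, hf, hs13⟩ := exists_second h3
  have hrq : r ∣ q ^ 4 - q ^ 2 + 1 := (dvd_pow_self r ha.ne').trans hrdvd
  obtain ⟨h1, h2, h4⟩ := facts hq hK hr hrq
  have hN : Fintype.card chevD4.Idx = 28 := by
    show Fintype.card (Fin _ ⊕ Fin _) = _
    rw [Fintype.card_sum, Fintype.card_fin, Fintype.card_fin]
    rfl
  have hs6 : s ∣ q ^ 6 - 1 := (hs.dvd_iff 6).2 (by rcases hf with rfl | rfl <;> norm_num)
  refine core_wt (k := 3) (φ := (twistedD4 K q).subtype) (twistedD4 K q).subtype_injective hK (by norm_num) hr hs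
    ?_ (by rcases hf with rfl | rfl <;> norm_num) (nonAdj hq hK hr hrq hs (by rcases hf with rfl | rfl <;> norm_num))
    h2 ?_ ha (by rw [hN]; omega) (h4 _ hrdvd)
  · rw [card_eq hq hK]
    exact ((hs6.mul_left _).mul_right _).mul_left _
  · rw [hN]
    exact lcm_gt hs.prime (by norm_num) (by norm_num; omega) hs13 (by norm_num)

theorem row_two {K : Type*} [Field K] [Fintype K] (hK : Fintype.card K = 2 ^ 3) : Core ↥(twistedD4 K 2) := by
  have hq : IsPrimePow 2 := Nat.prime_two.isPrimePow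
  have hr : Ppd 2 12 13 := ppd_of_dvd (by norm_num) (by norm_num)
  have hrq : 13 ∣ 2 ^ 4 - 2 ^ 2 + 1 := by norm_num
  obtain ⟨h1, h2, h4⟩ := facts hq hK hr hrq
  have hcard : Nat.card ↥(twistedD4 K 2) = 13 * (2 ^ 12 * 3 ^ 4 * 7 ^ 2) := by
    rw [card_eq hq hK]
    norm_num
  have hna : NonAdj ↥(twistedD4 K 2) 13 7 := by
    refine nonAdj_of_card fun x hx h1' => ?_
    rw [h1 x hx] at h1'
    norm_num at h1'
  refine DghpArith.core_primes (r := 13) (s := 7) (by norm_num) (by norm_num) (by norm_num) hna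
    (by rw [hcard]; exact dvd_mul_right _ _) (by rw [hcard]; norm_num) (by rw [hcard]; norm_num) (by norm_num) ?_
  intro k hk hk2
  rw [hcard] at hk2
  have hk3 : k < 3 := by
    by_contra h
    push Not at h
    have h5 := (pow_dvd_pow 7 h).trans hk2
    norm_num at h5
  interval_cases k <;> norm_num

/-- **³D₄(q)** -/
theorem row_3D4 {K : Type*} [Field K] [Fintype K] {q : ℕ} (hq : IsPrimePow q) (hK : Fintype.card K = q ^ 3) :
    Core ↥(twistedD4 K q) := by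
  rcases Nat.lt_or_ge q 3 with h | h
  · have h2 := hq.two_le
    obtain rfl : q = 2 := by omega
    exact row_two hK
  · exact row_big hq hK h

end Cfsg.Agent.H728.DghpTwD
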