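import Cfsg.Agent.OddOrderLocal.HallPi
import Cfsg.Agent.Solvable.SZ

/-!
# Pairs of elements which lie in no solvable subgroup (helper728)

* `not_solvable_of_norm` : `r ≠ s` primes; if no nontrivial elementary abelian `r`-subgroup is normalised by an element of
  order `s ^ b` and no nontrivial elementary abelian `s`-subgroup is normalised by an element of order `r ^ a`, then no
  solvable subgroup contains elements of orders `r ^ a` and `s ^ b`.
* `act_on_prime` : an element of prime order `s` normalising a subgroup of prime order `r` centralises it or acts on it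
  as `y ↦ y ^ c`, `c` of order `s` modulo `r`.
-/

set_option autoImplicit false
set_option linter.unusedSectionVars false

namespace Cfsg.Agent.H728.DghpLem

variable {G : Type*} [Group G] [Finite G]

/-- elementary abelian `p`-subgroups, `≠ 1` -/
def Elem (p : ℕ) (P : Subgroup G) : Prop :=
  P ≠ ⊥ ∧ (∀ u ∈ P, ∀ v ∈ P, u * v = v * u) ∧ ∀ u ∈ P, u ^ p = 1

theorem exists_elem_of_solvable {r s : ℕ} (hr : r.Prime) (hs : s.Prime) {K : Subgroup G}
    (hK : Group.IsSolvable ↥K) (hK1 : K ≠ ⊥) (hKp : ∀ p : ℕ, p.Prime → p ∣ Nat.card K → p = r ∨ p = s) :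
    ∃ P : Subgroup G, (Elem r P ∨ Elem s P) ∧ K ≤ Subgroup.normalizer (P : Set G) := by
  have : Nontrivial ↥K := (Subgroup.nontrivial_iff_ne_bot K).2 hK1
  obtain ⟨p, hp, P, hPn, hP1, hPab, hPp⟩ := Cfsg.Agent.Solvable.SZ.exists_normal_elemAb ↥K hK
  have hpK : p ∣ Nat.card K := by
    obtain ⟨u, hu, hu1⟩ : ∃ u ∈ P, u ≠ 1 := by
      by_contra h
      push Not at h
      exact hP1 ((Subgroup.eq_bot_iff_forall P).2 h)
    have : Fact p.Prime := ⟨hp⟩
    have h1 : orderOf u = p := orderOf_eq_prime (hPp u hu) hu1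
    rw [← h1]
    exact orderOf_dvd_natCard u
  have hE : Elem p (P.map K.subtype) := by
    refine ⟨?_, ?_, ?_⟩
    · intro h
      rw [Subgroup.map_eq_bot_iff_of_injective _ K.subtype_injective] at h
      exact hP1 h
    · rintro _ ⟨u, hu, rfl⟩ _ ⟨v, hv, rfl⟩
      rw [← map_mul, ← map_mul, hPab u hu v hv]
    · rintro _ ⟨u, hu, rfl⟩
      rw [← map_pow, hPp u hu, map_one]
  refine ⟨P.map K.subtype, ?_, ?_⟩
  · rcases hKp p hp hpK with rfl | rfl
    · exact Or.inl hE
    · exact Or.inr hE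
  · intro k hk
    rw [Subgroup.mem_normalizer_iff]
    intro g
    constructor
    · rintro ⟨u, hu, rfl⟩
      exact ⟨⟨k, hk⟩ * u * ⟨k, hk⟩⁻¹, hPn.conj_mem u hu _, rfl⟩
    · rintro ⟨u, hu, h⟩
      refine ⟨⟨k, hk⟩⁻¹ * u * ⟨k, hk⟩, ?_, ?_⟩
      · have h1 := hPn.conj_mem u hu ⟨k, hk⟩⁻¹
        rwa [inv_inv] at h1
      · show k⁻¹ * (u : G) * k = g
        have h2 : (u : G) = k * g * k⁻¹ := h
        rw [h2]
        group

theorem primes_zpowers {r a : ℕ} (hr : r.Prime) {x : G} (hx : orderOf x = r ^ a) :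
    ∀ p : ℕ, p.Prime → p ∣ Nat.card ↥(Subgroup.zpowers x) → p = r := by
  intro p hp hd
  rw [Nat.card_zpowers, hx] at hd
  exact (Nat.prime_dvd_prime_iff_eq hp hr).1 (hp.dvd_of_dvd_pow hd)

/-- **The criterion.** -/
theorem not_solvable_of_norm {r s a b : ℕ} (hr : r.Prime) (hs : s.Prime) (ha : 0 < a)
    (h1 : ∀ P : Subgroup G, Elem r P → ∀ y : G, orderOf y = s ^ b → y ∉ Subgroup.normalizer (P : Set G))
    (h2 : ∀ P : Subgroup G, Elem s P → ∀ x : G, orderOf x = r ^ a → x ∉ Subgroup.normalizer (P : Set G))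
    (x y : G) (hx : orderOf x = r ^ a) (hy : orderOf y = s ^ b) :
    ¬ Group.IsSolvable ↥(Subgroup.closure ({x, y} : Set G)) := by
  intro hsol
  set M := Subgroup.closure ({x, y} : Set G) with hM
  have hxM : x ∈ M := Subgroup.subset_closure (by simp)
  have hyM : y ∈ M := Subgroup.subset_closure (by simp)
  have hxp : ∀ p : ℕ, p.Prime → p ∣ Nat.card ↥(Subgroup.zpowers x) → p ∈ ({r, s} : Set ℕ) := fun p hp hd => by
    left
    exact primes_zpowers hr hx p hp hd
  have hyp : ∀ p : ℕ, p.Prime → p ∣ Nat.card ↥(Subgroup.zpowers y) → p ∈ ({r, s} : Set ℕ) := fun p hp hd => by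
    right
    exact primes_zpowers hs hy p hp hd
  obtain ⟨K, hK, hxK⟩ := Cfsg.Agent.OddOrderLocal.HallPi.exists_isPiHallOf_ge hsol ({r, s} : Set ℕ)
    (X := Subgroup.zpowers x) (by rwa [Subgroup.zpowers_le]) hxp
  obtain ⟨m, hm, hyK⟩ := Cfsg.Agent.OddOrderLocal.HallPi.exists_conj_le_of_isPiHallOf hsol hK
    (X := Subgroup.zpowers y) (by rwa [Subgroup.zpowers_le]) hyp
  have hyK' : m * y * m⁻¹ ∈ K := hyK ⟨y, Subgroup.mem_zpowers y, rfl⟩
  have hxK' : x ∈ K := hxK (Subgroup.mem_zpowers x)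
  have hKM : K ≤ M := hK.1
  have hKs : Group.IsSolvable ↥K := solvable_of_solvable_injective (Subgroup.inclusion_injective hKM)
  have hx1 : x ≠ 1 := by
    rintro rfl
    rw [orderOf_one] at hx
    exact (Nat.one_lt_pow ha.ne' hr.one_lt).ne hx
  have hK1 : K ≠ ⊥ := by
    intro h
    rw [h, Subgroup.mem_bot] at hxK'
    exact hx1 hxK'
  obtain ⟨P, hP, hn⟩ := exists_elem_of_solvable hr hs hKs hK1 (fun p hp hd => hK.2.1 p hp hd)
  rcases hP with hP | hP
  · refine h1 P hP (m * y * m⁻¹) ?_ (hn hyK')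
    have e : m * y * m⁻¹ = MulAut.conj m y := rfl
    rw [e, ← hy]
    exact orderOf_injective (MulAut.conj m).toMonoidHom (MulAut.conj m).injective y
  · exact h2 P hP x hx (hn hxK')

/-- The elements of order `r` in a group with cyclic Sylow `r`-subgroups: an elementary abelian `r`-subgroup has order `r`. -/
theorem Elem.eq_zpowers_of_cyclic {r : ℕ} (hr : r.Prime) {P : Subgroup G} (hP : Elem r P) (hc : IsCyclic ↥P) :
    ∃ y : G, orderOf y = r ∧ P = Subgroup.zpowers y := by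
  have : Fact r.Prime := ⟨hr⟩
  obtain ⟨⟨y, hy⟩, hg⟩ := hc.exists_generator
  have hy1 : y ≠ 1 := by
    intro h
    apply hP.1
    rw [Subgroup.eq_bot_iff_forall]
    intro u hu
    obtain ⟨n, hn⟩ := hg ⟨u, hu⟩
    have h1 : y ^ n = u := congrArg Subtype.val hn
    rw [← h1, h, one_zpow]
  refine ⟨y, orderOf_eq_prime (hP.2.2 y hy) hy1, ?_⟩
  apply le_antisymm
  · intro u hu
    obtain ⟨n, hn⟩ := hg ⟨u, hu⟩
    exact ⟨n, congrArg Subtype.val hn⟩
  · rwa [Subgroup.zpowers_le]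

/-- an elementary abelian `r`-subgroup of a group all of whose Sylow `r`-subgroups are cyclic is cyclic -/
theorem Elem.isCyclic {r : ℕ} [Fact r.Prime] {P : Subgroup G} (hP : Elem r P)
    (hc : ∀ S : Sylow r G, IsCyclic ↥(S : Subgroup G)) : IsCyclic ↥P := by
  have hPg : IsPGroup r ↥P := fun u => ⟨1, by
    rw [pow_one]
    exact Subtype.ext (hP.2.2 u.1 u.2)⟩
  obtain ⟨S, hS⟩ := hPg.exists_le_sylow
  have := hc S
  exact isCyclic_of_injective (Subgroup.inclusion hS) (Subgroup.inclusion_injective hS)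

/-- The action of an element of prime order `s` on a subgroup of prime order `r`. -/
theorem act_on_prime {r s : ℕ} (hr : r.Prime) (hs : s.Prime) {y x : G} (hy : orderOf y = r) (hx : orderOf x = s)
    (hn : x ∈ Subgroup.normalizer (Subgroup.zpowers y : Set G)) (hxy : x * y ≠ y * x) :
    ∃ c : (ZMod r)ˣ, orderOf c = s ∧ x * y * x⁻¹ = y ^ (c : ZMod r).val := by
  have : Fact r.Prime := ⟨hr⟩
  have : Fact s.Prime := ⟨hs⟩
  have : NeZero r := ⟨hr.ne_zero⟩
  -- the exponents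
  have hpow : ∀ i j : ℕ, y ^ i = y ^ j ↔ (i : ZMod r) = j := fun i j => by
    rw [pow_inj_mod, hy, ZMod.natCast_eq_natCast_iff']
  obtain ⟨n, hn'⟩ := (Subgroup.mem_normalizer_iff.1 hn y).1 (Subgroup.mem_zpowers y)
  have hyr : y ^ r = 1 := by rw [← hy]; exact pow_orderOf_eq_one y
  obtain ⟨c, hc⟩ : ∃ c : ℕ, x * y * x⁻¹ = y ^ c := by
    refine ⟨(n % r).toNat, ?_⟩
    have h1 : 0 ≤ n % r := Int.emod_nonneg _ (by exact_mod_cast hr.ne_zero)
    have hn'' : y ^ n = x * y * x⁻¹ := hn'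
    rw [← hn'', ← zpow_natCast, Int.toNat_of_nonneg h1, ← hy, zpow_mod_orderOf]
  have hiter : ∀ k : ℕ, x ^ k * y * (x ^ k)⁻¹ = y ^ (c ^ k) := by
    intro k
    induction k with
    | zero => simp
    | succ k ih =>
      have e : x ^ (k + 1) * y * (x ^ (k + 1))⁻¹ = x * (x ^ k * y * (x ^ k)⁻¹) * x⁻¹ := by
        rw [pow_succ']; group
      rw [e, ih]
      have e2 : x * y ^ (c ^ k) * x⁻¹ = (x * y * x⁻¹) ^ (c ^ k) := conj_pow.symm
      rw [e2, hc, ← pow_mul, pow_succ']
  have hcs : (c : ZMod r) ^ s = 1 := by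
    have h1 := hiter s
    rw [← hx, pow_orderOf_eq_one, hx] at h1
    have h2 : y ^ (c ^ s) = y ^ 1 := by rw [← h1]; simp
    rw [hpow] at h2
    push_cast at h2
    exact h2
  have hc1 : (c : ZMod r) ≠ 1 := by
    intro h
    apply hxy
    have h2 : y ^ c = y ^ 1 := (hpow c 1).2 (by rw [h, Nat.cast_one])
    rw [pow_one] at h2
    rw [h2] at hc
    exact mul_inv_eq_iff_eq_mul.1 hc
  have hu : IsUnit (c : ZMod r) := IsUnit.of_pow_eq_one hcs hs.ne_zero
  refine ⟨hu.unit, ?_, ?_⟩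
  · apply orderOf_eq_prime
    · exact Units.ext (by rw [Units.val_pow_eq_pow_val, IsUnit.unit_spec, hcs, Units.val_one])
    · intro h
      apply hc1
      have := congrArg Units.val h
      rwa [IsUnit.unit_spec, Units.val_one] at this
  · rw [IsUnit.unit_spec, hc, hpow]
    rw [ZMod.natCast_zmod_val]

end Cfsg.Agent.H728.DghpLem
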