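import Mathlib

/-!
# Eigenvalue orbits (helper728)

`K` a finite field with `q` elements, `y ∈ GL_N(K)` of prime order `r` not the characteristic, `x ∈ GL_N(K)` with
`x y x⁻¹ = y ^ c`, `c` of order `s` modulo `r`. The eigenvalues `≠ 1` of `y` are permuted by `λ ↦ λ ^ q` and `λ ↦ λ ^ c`,
so `lcm (ord_r q) s ≤ N` (`lcm_le`), and `lcm (ord_r q) s < N` if `y` has a nonzero fixed vector (`lcm_lt`).
-/

set_option autoImplicit false
set_option linter.unusedSectionVars false

namespace Cfsg.Agent.H728.DghpEig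

open Module

section Lin

variable {L : Type*} [Field L] [IsAlgClosed L] {V : Type*} [AddCommGroup V] [Module L V] [FiniteDimensional L V]

/-- An endomorphism `≠ 1` of order dividing `r`, `r ≠ 0` in `L`, has an eigenvalue `≠ 1`. -/
theorem exists_eigenvalue_ne_one {f : Module.End L V} {r : ℕ} (hf : f ^ r = 1) (hf1 : f ≠ 1) (hr : (r : L) ≠ 0) :
    ∃ μ : L, f.HasEigenvalue μ ∧ μ ≠ 1 := by
  let g : Module.End L V := f - 1
  let U : Submodule L V := LinearMap.range g
  have hg : g ≠ 0 := fun h => hf1 (sub_eq_zero.1 h)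
  have hcomm : Commute f g := (Commute.refl f).sub_right (Commute.one_right f)
  have hinv : ∀ u ∈ U, f u ∈ U := by
    rintro _ ⟨v, rfl⟩
    refine ⟨f v, ?_⟩
    have := congrArg (fun h : Module.End L V => h v) hcomm.eq
    exact this.symm
  have hU : Nontrivial ↥U := by
    rw [Submodule.nontrivial_iff_ne_bot]
    intro h
    exact hg (LinearMap.range_eq_bot.1 h)
  obtain ⟨μ, hμ⟩ := Module.End.exists_eigenvalue (f.restrict hinv)
  obtain ⟨u, hu⟩ := hμ.exists_hasEigenvector
  have hu1 : f u.1 = μ • u.1 := congrArg Subtype.val hu.apply_eq_smul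
  have hu0 : u.1 ≠ 0 := fun h => hu.2 (Subtype.ext h)
  refine ⟨μ, Module.End.hasEigenvalue_of_hasEigenvector ⟨Module.End.mem_eigenspace_iff.2 hu1, hu0⟩, ?_⟩
  rintro rfl
  obtain ⟨v, hv⟩ := u.2
  have h1 : (∑ i ∈ Finset.range r, f ^ i) * g = 0 := by
    have := geom_sum_mul f r
    rw [hf, sub_self] at this
    exact this
  have h2 : (∑ i ∈ Finset.range r, f ^ i) u.1 = 0 := by
    rw [← hv]
    exact congrArg (fun h : Module.End L V => h v) h1
  have h3 : ∀ i : ℕ, (f ^ i) u.1 = u.1 := by
    intro i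
    induction i with
    | zero => rfl
    | succ i ih =>
      rw [pow_succ', Module.End.mul_apply, ih, hu1, one_smul]
  rw [LinearMap.sum_apply, Finset.sum_congr rfl (fun i _ => h3 i), Finset.sum_const, Finset.card_range,
    ← Nat.cast_smul_eq_nsmul L] at h2
  rcases smul_eq_zero.1 h2 with h4 | h4
  · exact hr h4
  · exact hu0 h4

/-- the eigenvalues are finite in number, at most `dim V` -/
theorem card_le {f : Module.End L V} (E : Finset L) (hE : ∀ μ ∈ E, f.HasEigenvalue μ) :
    E.card ≤ Module.finrank L V := by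
  classical
  have h1 : E ⊆ f.charpoly.roots.toFinset := by
    intro μ hμ
    rw [Multiset.mem_toFinset, Polynomial.mem_roots (LinearMap.charpoly_monic f).ne_zero]
    exact (Module.End.hasEigenvalue_iff_isRoot_charpoly f μ).1 (hE μ hμ)
  calc E.card ≤ f.charpoly.roots.toFinset.card := Finset.card_le_card h1
    _ ≤ Multiset.card f.charpoly.roots := Multiset.toFinset_card_le _
    _ ≤ f.charpoly.natDegree := Polynomial.card_roots' _
    _ = _ := LinearMap.charpoly_natDegree f

end Lin

section Main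

variable {r : ℕ} [Fact r.Prime] {L : Type*} [Field L]

/-- Powers of a nontrivial `r`-th root of unity. -/
theorem pow_val_eq_iff {μ : L} (hμ : μ ^ r = 1) (hμ1 : μ ≠ 1) (a b : ZMod r) : μ ^ a.val = μ ^ b.val ↔ a = b := by
  have ho : IsPrimitiveRoot μ r := by
    have h1 := IsPrimitiveRoot.orderOf μ
    rwa [orderOf_eq_prime hμ hμ1] at h1
  have : NeZero r := ⟨(Fact.out : r.Prime).ne_zero⟩
  constructor
  · intro h
    exact ZMod.val_injective r (ho.pow_inj (ZMod.val_lt a) (ZMod.val_lt b) h)
  · rintro rfl; rfl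

theorem pow_val_mul {μ : L} (hμ : μ ^ r = 1) (a b : ZMod r) : μ ^ (a * b).val = (μ ^ a.val) ^ b.val := by
  rw [← pow_mul, ZMod.val_mul]
  exact (pow_eq_pow_mod _ hμ).symm

theorem pow_val_cast {μ : L} (hμ : μ ^ r = 1) (n : ℕ) : μ ^ (n : ZMod r).val = μ ^ n := by
  rw [ZMod.val_natCast]
  exact (pow_eq_pow_mod _ hμ).symm

end Main

/-- The general bound: `E0` is a finite set of eigenvalues all of which are `1`. -/
theorem lcm_add_le {K : Type*} [Field K] [Fintype K] {N : Type*} [Fintype N] [DecidableEq N] {r s : ℕ} (hr : r.Prime)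
    (hrK : (r : K) ≠ 0) {x y : GL N K} (hy : orderOf y = r) {c : (ZMod r)ˣ} (hc : orderOf c = s)
    (h : x * y * x⁻¹ = y ^ (c : ZMod r).val) (e : ℕ)
    (he : e = 0 ∨ (e = 1 ∧ ∃ v : N → K, v ≠ 0 ∧ (y : Matrix N N K).mulVec v = v)) :
    Nat.lcm (orderOf ((Fintype.card K : ℕ) : ZMod r)) s + e ≤ Fintype.card N := by
  classical
  have : Fact r.Prime := ⟨hr⟩
  have : NeZero r := ⟨hr.ne_zero⟩
  let L := AlgebraicClosure K
  let A : Matrix N N L := (y : Matrix N N K).map (algebraMap K L)
  let X : Matrix N N L := (x : Matrix N N K).map (algebraMap K L)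
  let X' : Matrix N N L := ((x⁻¹ : GL N K) : Matrix N N K).map (algebraMap K L)
  let f : Module.End L (N → L) := Matrix.toLin' A
  have hmapmul : ∀ P Q : Matrix N N K, (P * Q).map (algebraMap K L) = P.map (algebraMap K L) * Q.map (algebraMap K L) :=
    fun P Q => Matrix.map_mul
  have hmap1 : (1 : Matrix N N K).map (algebraMap K L) = 1 := Matrix.map_one _ (map_zero _) (map_one _)
  have hmappow : ∀ (P : Matrix N N K) (n : ℕ), (P ^ n).map (algebraMap K L) = (P.map (algebraMap K L)) ^ n := by
    intro P n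
    induction n with
    | zero => rw [pow_zero, pow_zero, hmap1]
    | succ n ih => rw [pow_succ, pow_succ, hmapmul, ih]
  have hXX' : X * X' = 1 := by
    show (x : Matrix N N K).map (algebraMap K L) * ((x⁻¹ : GL N K) : Matrix N N K).map (algebraMap K L) = 1
    rw [← hmapmul, ← Units.val_mul, mul_inv_cancel, Units.val_one, hmap1]
  have hX'X : X' * X = 1 := by
    show ((x⁻¹ : GL N K) : Matrix N N K).map (algebraMap K L) * (x : Matrix N N K).map (algebraMap K L) = 1
    rw [← hmapmul, ← Units.val_mul, inv_mul_cancel, Units.val_one, hmap1]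
  have hAc : X * A * X' = A ^ (c : ZMod r).val := by
    have h1 := congrArg (fun g : GL N K => (g : Matrix N N K).map (algebraMap K L)) h
    simp only [Units.val_mul, Units.val_pow_eq_pow_val, hmapmul, hmappow] at h1
    exact h1
  have hAr : A ^ r = 1 := by
    show ((y : Matrix N N K).map (algebraMap K L)) ^ r = 1
    rw [← hmappow, ← Units.val_pow_eq_pow_val, ← hy, pow_orderOf_eq_one, Units.val_one, hmap1]
  have hA1 : A ≠ 1 := by
    intro hA
    have h1 : y = 1 := by
      apply Units.ext
      rw [Units.val_one]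
      ext i j
      have h2 := congrFun (congrFun hA i) j
      have h3 : algebraMap K L ((y : Matrix N N K) i j) = algebraMap K L ((1 : Matrix N N K) i j) := by
        rw [← hmap1] at h2
        exact h2
      exact (algebraMap K L).injective h3
    rw [h1, orderOf_one] at hy
    exact hr.one_lt.ne hy
  have hfr : f ^ r = 1 := by
    show (Matrix.toLin' A) ^ r = 1
    rw [← Matrix.toLin'_pow, hAr, Matrix.toLin'_one]
    rfl
  have hf1 : f ≠ 1 := by
    intro h1
    apply hA1
    apply Matrix.toLin'.injective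
    rw [Matrix.toLin'_one]
    exact h1
  have hrL : (r : L) ≠ 0 := by
    intro h1
    apply hrK
    apply (algebraMap K L).injective
    rw [map_natCast, map_zero, h1]
  have hroot : ∀ μ : L, f.HasEigenvalue μ → μ ^ r = 1 := by
    intro μ hμ
    obtain ⟨v, hv⟩ := (hμ.pow r).exists_hasEigenvector
    have h1 := hv.apply_eq_smul
    rw [hfr, Module.End.one_apply] at h1
    have h2 : (μ ^ r - 1) • v = 0 := by rw [sub_smul, one_smul, ← h1, sub_self]
    rcases smul_eq_zero.1 h2 with h3 | h3
    · exact sub_eq_zero.1 h3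
    · exact absurd h3 hv.2
  -- the charpoly criterion
  have hchar : ∀ μ : L, f.HasEigenvalue μ ↔ Polynomial.aeval μ ((y : Matrix N N K).charpoly) = 0 := by
    intro μ
    rw [Module.End.hasEigenvalue_iff_isRoot_charpoly, Matrix.charpoly_toLin']
    show (((y : Matrix N N K).map (algebraMap K L)).charpoly).IsRoot μ ↔ _
    rw [Matrix.charpoly_map, Polynomial.IsRoot.def, Polynomial.eval_map_algebraMap]
  have hq : ∀ μ : L, f.HasEigenvalue μ → f.HasEigenvalue (μ ^ Fintype.card K) := by
    intro μ hμ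
    rw [hchar] at hμ ⊢
    have h1 := Polynomial.aeval_algHom_apply (FiniteField.frobeniusAlgHom K L) μ ((y : Matrix N N K).charpoly)
    rw [hμ, map_zero] at h1
    exact h1
  have hcc : ∀ μ : L, f.HasEigenvalue μ → f.HasEigenvalue (μ ^ (c : ZMod r).val) := by
    intro μ hμ
    obtain ⟨v, hv⟩ := (hμ.pow (c : ZMod r).val).exists_hasEigenvector
    have h1 := hv.apply_eq_smul
    have h2 : f ^ (c : ZMod r).val = Matrix.toLin' (X * A * X') := by
      rw [hAc, Matrix.toLin'_pow]
    rw [h2, Matrix.toLin'_apply] at h1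
    refine Module.End.hasEigenvalue_of_hasEigenvector (x := X'.mulVec v) ⟨Module.End.mem_eigenspace_iff.2 ?_, ?_⟩
    · show Matrix.toLin' A (X'.mulVec v) = _
      rw [Matrix.toLin'_apply, ← Matrix.mulVec_smul, ← h1, Matrix.mulVec_mulVec, Matrix.mulVec_mulVec,
        ← Matrix.mul_assoc, ← Matrix.mul_assoc, hX'X, Matrix.one_mul]
    · intro h3
      apply hv.2
      have h4 : X.mulVec (X'.mulVec v) = 0 := by rw [h3, Matrix.mulVec_zero]
      rwa [Matrix.mulVec_mulVec, hXX', Matrix.one_mulVec] at h4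
  -- the base eigenvalue
  obtain ⟨μ, hμ, hμ1⟩ := exists_eigenvalue_ne_one hfr hf1 hrL
  -- the unit `q`
  have hqr : ((Fintype.card K : ℕ) : ZMod r) ≠ 0 := by
    intro h1
    rw [ZMod.natCast_eq_zero_iff] at h1
    obtain ⟨p, hp⟩ := CharP.exists K
    obtain ⟨n, hpp, hcard⟩ := FiniteField.card K p
    rw [hcard] at h1
    have h2 := (Nat.prime_dvd_prime_iff_eq hr hpp).1 (hr.dvd_of_dvd_pow h1)
    apply hrK
    rw [h2]
    exact CharP.cast_eq_zero K p
  let qu : (ZMod r)ˣ := Units.mk0 _ hqr
  have hqo : orderOf qu = orderOf ((Fintype.card K : ℕ) : ZMod r) := by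
    rw [← orderOf_units]
    rfl
  -- the exponents preserving the eigenvalues
  let S : (ZMod r)ˣ → Prop := fun u => ∀ ν : L, f.HasEigenvalue ν → f.HasEigenvalue (ν ^ (u : ZMod r).val)
  have hSmul : ∀ u v, S u → S v → S (u * v) := by
    intro u v hu hv ν hν
    rw [Units.val_mul, pow_val_mul (hroot ν hν)]
    exact hv _ (hu _ hν)
  have hS1 : S 1 := by
    intro ν hν
    rw [Units.val_one, ZMod.val_one, pow_one]
    exact hν
  have hSpow : ∀ u, S u → ∀ n : ℕ, S (u ^ n) := by
    intro u hu n
    induction n with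
    | zero => rw [pow_zero]; exact hS1
    | succ n ih => rw [pow_succ]; exact hSmul _ _ ih hu
  have hSq : S qu := by
    intro ν hν
    have h1 : (qu : ZMod r) = ((Fintype.card K : ℕ) : ZMod r) := rfl
    rw [h1, pow_val_cast (hroot ν hν)]
    exact hq ν hν
  have hSc : S c := fun ν hν => hcc ν hν
  have hor := (Commute.all qu c).orderOf_mul_pow_eq_lcm (orderOf_pos qu).ne' (orderOf_pos c).ne'
  set u : (ZMod r)ˣ := qu ^ (orderOf qu / (orderOf qu).factorizationLCMLeft (orderOf c)) *
    c ^ (orderOf c / (orderOf qu).factorizationLCMRight (orderOf c)) with hu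
  have hSu : S u := hSmul _ _ (hSpow _ hSq _) (hSpow _ hSc _)
  rw [hqo, hc] at hor
  -- the eigenvalues
  let E : Finset L := (Finset.range (orderOf u)).image fun n => μ ^ ((u ^ n : (ZMod r)ˣ) : ZMod r).val
  have hEcard : E.card = orderOf u := by
    rw [Finset.card_image_of_injOn, Finset.card_range]
    intro a ha b hb hab
    rw [Finset.coe_range, Set.mem_Iio] at ha hb
    have h1 := (pow_val_eq_iff (hroot μ hμ) hμ1 _ _).1 hab
    exact pow_injOn_Iio_orderOf ha hb (Units.ext h1)
  have hE : ∀ ν ∈ E, f.HasEigenvalue ν := by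
    intro ν hν
    obtain ⟨n, -, rfl⟩ := Finset.mem_image.1 hν
    exact hSpow u hSu n μ hμ
  have hE1 : (1 : L) ∉ E := by
    intro h1
    obtain ⟨n, -, hn⟩ := Finset.mem_image.1 h1
    have h2 : μ ^ ((u ^ n : (ZMod r)ˣ) : ZMod r).val = μ ^ (0 : ZMod r).val := by
      rw [hn, ZMod.val_zero, pow_zero]
    exact (u ^ n).ne_zero ((pow_val_eq_iff (hroot μ hμ) hμ1 _ _).1 h2)
  have hfin : Module.finrank L (N → L) = Fintype.card N := Module.finrank_fintype_fun_eq_card L
  rcases he with rfl | ⟨rfl, v, hv0, hv⟩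
  · have h1 := card_le E hE
    rw [hEcard, hor, hfin] at h1
    exact h1
  · have h1 : f.HasEigenvalue 1 := by
      refine Module.End.hasEigenvalue_of_hasEigenvector (x := fun i => algebraMap K L (v i))
        ⟨Module.End.mem_eigenspace_iff.2 ?_, ?_⟩
      · show Matrix.toLin' A _ = _
        rw [Matrix.toLin'_apply, one_smul]
        ext i
        have h2 := congrFun hv i
        show ∑ j, (algebraMap K L ((y : Matrix N N K) i j)) * algebraMap K L (v j) = _
        rw [← h2]
        show _ = algebraMap K L (∑ j, (y : Matrix N N K) i j * v j)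
        rw [map_sum]
        exact Finset.sum_congr rfl fun j _ => (map_mul _ _ _).symm
      · intro h2
        apply hv0
        ext i
        have h3 := congrFun h2 i
        exact (algebraMap K L).injective (by rw [h3]; exact (map_zero _).symm)
    have h2 : ∀ ν ∈ insert (1 : L) E, f.HasEigenvalue ν := by
      intro ν hν
      rcases Finset.mem_insert.1 hν with rfl | hν
      · exact h1
      · exact hE ν hν
    have h3 := card_le _ h2
    rw [Finset.card_insert_of_notMem hE1, hEcard, hor, hfin] at h3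
    exact h3

/-- **The eigenvalue bound.** -/
theorem lcm_le {K : Type*} [Field K] [Fintype K] {N : Type*} [Fintype N] [DecidableEq N] {r s : ℕ} (hr : r.Prime)
    (hrK : (r : K) ≠ 0) {x y : GL N K} (hy : orderOf y = r) {c : (ZMod r)ˣ} (hc : orderOf c = s)
    (h : x * y * x⁻¹ = y ^ (c : ZMod r).val) :
    Nat.lcm (orderOf ((Fintype.card K : ℕ) : ZMod r)) s ≤ Fintype.card N := by
  simpa using lcm_add_le hr hrK hy hc h 0 (Or.inl rfl)

end Cfsg.Agent.H728.DghpEig
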