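import Cfsg.Agent.H728.DghpFour
import Cfsg.Agent.NotCT.Orders
import Cfsg.Agent.H393.Iso.Baby
import Cfsg.Agent.H393.Iso.Ru
import Cfsg.Agent.H393.Iso.TitsJ4
import Cfsg.Agent.BabyU.ModelInst
import Cfsg.Agent.H545.PQ.Rudvalis
import Cfsg.Agent.KFacts.J4.Base
import Cfsg.Agent.Schreier.SylMTwentyTwo

/-!
# `Core` for the Baby Monster, `Ru` and `J4` (helper728)

`B` : 47 and elements of order 4; `Ru`, `J4` : 29 and elements of order 8.
-/

set_option autoImplicit false
set_option maxRecDepth 100000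

namespace Cfsg.Agent.H728.DghpSporB

open Cfsg Cfsg.Agent.H728.DghpMat Cfsg.Agent.H728.DghpArith Cfsg.Agent.H728.DghpFour Cfsg.Agent.H518.Dghp

universe u

theorem nonAdj_of_na {G : Type*} [Group G] {p : ℕ} (h : H393.Iso.NA p G) : NonAdj G p 2 := h

/-- powers of an element whose order is divisible by `n` -/
theorem exists_of_dvd {G : Type*} [Group G] [Finite G] {n : ℕ} {g : G} (h : n ∣ orderOf g) :
    ∃ y : G, orderOf y = n := by
  have h0 := orderOf_pos g
  have hn : 0 < n := Nat.pos_of_dvd_of_pos h h0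
  refine ⟨g ^ (orderOf g / n), ?_⟩
  rw [orderOf_pow_of_dvd (Nat.div_pos (Nat.le_of_dvd h0 h) hn).ne' (Nat.div_dvd_of_dvd h), Nat.div_div_self h h0.ne']

/-- a 2-element whose square is not 1 -/
theorem four_of_two {G : Type*} [Group G] [Finite G] {n : ℕ} {g : G} (h : g ^ 2 ^ n = 1) (h2 : g ^ 2 ≠ 1) :
    ∃ y : G, orderOf y = 4 := by
  obtain ⟨i, hi, hi'⟩ := (Nat.dvd_prime_pow Nat.prime_two).1 (orderOf_dvd_of_pow_eq_one h)
  refine exists_of_dvd (g := g) ?_
  rw [hi']
  rcases i with _ | _ | i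
  · rw [pow_zero, orderOf_eq_one_iff] at hi'
    exact absurd (by rw [hi', one_pow]) h2
  · exfalso
    apply h2
    have h3 : orderOf g = 2 := by rw [hi']; norm_num
    rw [← h3, pow_orderOf_eq_one]
  · exact ⟨2 ^ i, by ring⟩

/-! ### `B` -/

theorem arith_b : ∀ j < 42, 47 ∣ 2 ^ j - 1 → j = 0 ∨ j = 23 := by decide +kernel

theorem exists_four_b (hfin : Finite Spor.BabyMonster) : ∃ y : Spor.BabyMonster, orderOf y = 4 := by
  obtain ⟨f, P, M₁, z, τ, τ₁, I, -, -⟩ := BabyU.ModelInst.model.iso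
  have hfin' : Finite _ := Finite.of_equiv _ f.toEquiv
  obtain ⟨q, hq, hqt⟩ := I.fuse
  have key : ∃ y, orderOf (y : _) = 4 ∧ y = f (f.symm y) := by
    by_cases h2 : q ^ 2 = 1
    · refine ⟨q * τ, ?_, by simp⟩
      have hqq : q * q = 1 := by rw [← pow_two]; exact h2
      have hqi : q⁻¹ = q := inv_eq_of_mul_eq_one_left hqq
      have h3 : (q * τ) ^ 2 = z := by
        rw [hqi] at hqt
        calc (q * τ) ^ 2 = (q * τ * q) * τ := by rw [pow_two]; group
          _ = τ * z * τ := by rw [hqt]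
          _ = τ * (z * τ) := by group
          _ = τ * (τ * z) := by rw [I.zc τ I.tP]
          _ = z := by rw [← mul_assoc, I.t_sq, one_mul]
      have h4 : (q * τ) ^ 2 ^ (1 + 1) = 1 := by
        rw [pow_succ, pow_one, pow_mul, h3, pow_two, I.z_sq]
      have h5 : ¬ (q * τ) ^ 2 ^ 1 = 1 := by
        rw [pow_one, h3]
        exact I.z_ne
      have := orderOf_eq_prime_pow h5 h4
      rw [this]
      norm_num
    · obtain ⟨n, hn⟩ := I.two ⟨q, hq⟩
      have hn' : q ^ 2 ^ n = 1 := congrArg Subtype.val hn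
      obtain ⟨y, hy⟩ := four_of_two hn' h2
      exact ⟨y, hy, by simp⟩
  obtain ⟨y, hy, hy'⟩ := key
  refine ⟨f.symm y, ?_⟩
  rw [MulEquiv.orderOf_eq, hy]

theorem core_b {G : Type u} [Group G] (h : Spor.IsoB G) : Core G := by
  obtain ⟨e⟩ := h
  refine Core.congr e.symm ?_
  have hcard : Nat.card Spor.BabyMonster = 4154781481226426191177580544000000 := NotCT.Orders.b ⟨MulEquiv.refl _⟩
  have hfin : Finite Spor.BabyMonster := Nat.finite_of_card_ne_zero (by rw [hcard]; norm_num)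
  refine core_odd (r := 47) 23 (by norm_num) (by norm_num) (nonAdj_of_na (H393.Iso.na_b ⟨MulEquiv.refl _⟩))
    (by rw [hcard]; norm_num) (by rw [hcard]; norm_num) (by norm_num) (exists_four_b hfin) ?_ (by decide)
  intro j hj hjd h47
  have hj42 : j < 42 := by
    by_contra hge
    have h1 : 2 ^ 42 ∣ Nat.card Spor.BabyMonster := (pow_dvd_pow 2 (by omega)).trans hjd
    rw [hcard] at h1
    revert h1
    norm_num
  rcases arith_b j hj42 h47 with h1 | h1
  · omega
  · exact h1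

/-! ### `Ru` -/

open Cfsg.Agent.H545.PQ Cfsg.Agent.Lib.BitNet Cfsg.Agent.SporadicB.RuOrder Cfsg.Agent.SporadicB.RuData
  Cfsg.Agent.H545.PQ.Rudvalis in
theorem exists_eight_H : ∃ y : Cfsg.Agent.SporadicB.RuOrder.H, 8 ∣ orderOf y := by
  obtain ⟨g, hg⟩ := exists_el [net0, net1] (by simp)
  refine ⟨g, ?_⟩
  have h1 : ((g : Equiv.Perm (Fin 4060)))^[8] ⟨1, by norm_num⟩ = ⟨1, by norm_num⟩ := by
    apply Fin.ext
    rw [Equiv.Perm.iterate_eq_pow, pow_apply hg]
    exact Nat.eq_of_beq_eq_true (by decide +kernel)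
  have h2 : ((g : Equiv.Perm (Fin 4060)))^[4] ⟨1, by norm_num⟩ ≠ ⟨1, by norm_num⟩ := by
    intro h
    have := congrArg Fin.val h
    rw [Equiv.Perm.iterate_eq_pow, pow_apply hg] at this
    exact Nat.ne_of_beq_eq_false (by decide +kernel) this
  have h3 : Function.minimalPeriod (g : Equiv.Perm (Fin 4060)) ⟨1, by norm_num⟩ ∣ 2 ^ 3 :=
    Function.IsPeriodicPt.minimalPeriod_dvd h1
  have h4 : ¬ Function.minimalPeriod (g : Equiv.Perm (Fin 4060)) ⟨1, by norm_num⟩ ∣ 2 ^ 2 := by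
    intro h
    exact h2 ((Function.isPeriodicPt_minimalPeriod _ _).trans_dvd h)
  have h5 : Function.minimalPeriod (g : Equiv.Perm (Fin 4060)) ⟨1, by norm_num⟩ = 8 := by
    obtain ⟨i, hi, hi'⟩ := (Nat.dvd_prime_pow Nat.prime_two).1 h3
    rw [hi'] at h4
    have : ¬ i ≤ 2 := fun h => h4 (pow_dvd_pow 2 h)
    have : i = 3 := by omega
    rw [hi', this]
    norm_num
  rw [← h5]
  have h6 : Function.IsPeriodicPt (g : Equiv.Perm (Fin 4060)) (orderOf g) ⟨1, by norm_num⟩ := by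
    show ((g : Equiv.Perm (Fin 4060)))^[orderOf g] _ = _
    rw [Equiv.Perm.iterate_eq_pow, ← SubgroupClass.coe_pow, pow_orderOf_eq_one]
    rfl
  exact h6.minimalPeriod_dvd

theorem arith_29 : ∀ j < 22, 29 ∣ 2 ^ j - 1 → j = 0 := by decide +kernel

/-- `r = 29`, elements of order 8 -/
theorem core_29 {G : Type*} [Group G] [Finite G] (hna : NonAdj G 29 2) (h29 : 29 ∣ Nat.card G)
    (hsq : ¬ 29 ^ 2 ∣ Nat.card G) (h2 : ¬ 2 ^ 22 ∣ Nat.card G) (hy : ∃ y : G, orderOf y = 8) : Core G := by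
  have : Fact (Nat.Prime 29) := ⟨by norm_num⟩
  obtain ⟨x, hx⟩ := exists_prime_orderOf_dvd_card' 29 h29
  obtain ⟨y, hy⟩ := hy
  refine DghpArith.core (r := 29) (s := 2) (by norm_num) Nat.prime_two (by norm_num) hna
    (cyclic_of_not_sq (by norm_num) hsq) (a := 1) (b := 3) one_pos (by norm_num) (by norm_num) ?_
    ⟨x, by rw [hx, pow_one]⟩ ⟨y, by rw [hy]; norm_num⟩
  intro j hj hjd h
  have hj22 : j < 22 := by
    by_contra hge
    exact h2 ((pow_dvd_pow 2 (by omega)).trans hjd)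
  exact hj.ne' (arith_29 j hj22 h)

theorem core_ru {G : Type u} [Group G] [Finite G] (h : Spor.IsoRu G) : Core G := by
  have hcard := NotCT.Orders.ru h
  refine core_29 (nonAdj_of_na (H393.Iso.na_ru h)) (by rw [hcard]; norm_num) (by rw [hcard]; norm_num)
    (by rw [hcard]; norm_num) ?_
  obtain ⟨e⟩ := h
  obtain ⟨y, hy⟩ := exists_eight_H
  obtain ⟨w, hw⟩ := exists_of_dvd hy
  refine ⟨(e.trans RuLat.Main.equiv).symm w, ?_⟩
  rw [MulEquiv.orderOf_eq, hw]

/-! ### `J4` -/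

open Cfsg.Agent.Schreier.SylMTwentyTwo in
/-- an element of order 8 of `M22` -/
theorem exists_eight_m22 : ∃ y : Spor.M22, orderOf y = 8 := by
  obtain ⟨g, hg, hm⟩ := exists_gen 2 (by norm_num)
  refine ⟨⟨g, hm⟩, ?_⟩
  rw [Subgroup.orderOf_mk]
  have h2 := hg.mul hg
  have h4 := h2.mul h2
  have h8 := h4.mul h4
  have e8 : g ^ 8 = 1 := by
    have h : g ^ 8 = g * g * (g * g) * (g * g * (g * g)) := by
      simp only [pow_succ, pow_zero, one_mul, mul_assoc]
    rw [h]
    refine h8.inj ?_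
    have e : mulL (mulL (mulL (gl.getD 2 []) (gl.getD 2 [])) (mulL (gl.getD 2 []) (gl.getD 2 [])))
        (mulL (mulL (gl.getD 2 []) (gl.getD 2 [])) (mulL (gl.getD 2 []) (gl.getD 2 []))) = idL := by decide +kernel
    rw [e]
    exact rp_one
  have e4 : g ^ 4 ≠ 1 := by
    intro h1
    have h : g ^ 4 = g * g * (g * g) := by
      simp only [pow_succ, pow_zero, one_mul, mul_assoc]
    rw [h] at h1
    rw [h1] at h4
    have h5 := h4.unique rp_one
    revert h5
    decide +kernel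
  have := orderOf_eq_prime_pow (p := 2) (n := 2) (x := g) (by norm_num; exact e4) (by norm_num; exact e8)
  rw [this]
  norm_num

theorem core_j4 {G : Type u} [Group G] [Finite G] (h : Spor.IsoJ4 G) : Core G := by
  have hcard := NotCT.Orders.j4 h
  refine core_29 (nonAdj_of_na (H393.Iso.na_j4_29 h)) (by rw [hcard]; norm_num) (by rw [hcard]; norm_num)
    (by rw [hcard]; norm_num) ?_
  obtain ⟨t, Q, N, M, H⟩ := KFacts.J4.Transport.exists_hyp_of_iso h
  obtain ⟨π, hπ, -⟩ := H.pi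
  obtain ⟨y, hy⟩ := exists_eight_m22
  obtain ⟨m, hm⟩ := hπ y
  refine exists_of_dvd (g := ((m : Subgroup.centralizer ({t} : Set G)) : G)) ?_
  rw [Subgroup.orderOf_coe, Subgroup.orderOf_coe, ← hy, ← hm]
  exact orderOf_map_dvd π m

end Cfsg.Agent.H728.DghpSporB
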