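import Cfsg.Agent.H728.DghpMat
import Cfsg.Agent.CpAutBig.Small

/-!
# Non-adjacent primes from the suborbits of a permutation representation (helper728)

`H` a subgroup of `G`, `s` a prime, `s ∥ |G|`, `s ∤ |G : H|`.

* `nonAdj_of_suborbits` : if `s` divides the lengths of all nontrivial orbits of `H` on `G / H`, an element of order `s`
  has exactly one fixed point, so that it commutes with no element of prime order `r ∤ |H|`;
* `ncard_fix_dvd` : the number of fixed points of an element of order `s` on an orbit of `H` divides `|H|`.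
-/

set_option autoImplicit false
set_option linter.unusedSectionVars false

namespace Cfsg.Agent.H728.DghpFix

open Cfsg.Agent.H728.DghpMat

variable {G : Type*} [Group G] [Finite G] {H : Subgroup G} {r s : ℕ}

theorem orbit_stab {N X : Type*} [Group N] [MulAction N X] (q : X) :
    (MulAction.orbit N q).ncard * Nat.card (MulAction.stabilizer N q) = Nat.card N := by
  rw [← MulAction.index_stabilizer, mul_comm, Subgroup.card_mul_index]

theorem smul_mk (g h : G) : g • ((h : G) : G ⧸ H) = ((g * h : G) : G ⧸ H) := rfl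

theorem smul_one_eq (g : G) : g • ((1 : G) : G ⧸ H) = ((1 : G) : G ⧸ H) ↔ g ∈ H := by
  rw [smul_mk, mul_one]
  constructor
  · intro h
    have h1 := QuotientGroup.eq.1 h
    rw [mul_one] at h1
    exact (inv_mem_iff).1 h1
  · intro h
    rw [QuotientGroup.eq, mul_one]
    exact inv_mem h

/-- three orbits -/
theorem cover {a b : ℕ} (hi : H.index = 1 + a + b) {q₁ q₂ : G ⧸ H} (h1 : (MulAction.orbit H q₁).ncard = a)
    (h2 : (MulAction.orbit H q₂).ncard = b) (ha : a ≠ 1) (hb : b ≠ 1) (hab : a ≠ b) (q : G ⧸ H) :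
    q = ((1 : G) : G ⧸ H) ∨ q ∈ MulAction.orbit H q₁ ∨ q ∈ MulAction.orbit H q₂ := by
  have hone : MulAction.orbit H ((1 : G) : G ⧸ H) = {((1 : G) : G ⧸ H)} := by
    ext y
    rw [Set.mem_singleton_iff]
    constructor
    · rintro ⟨⟨g, hg⟩, hy⟩
      rw [← hy]
      exact (smul_one_eq g).2 hg
    · rintro rfl
      exact MulAction.mem_orbit_self _
  have hn1 : ((1 : G) : G ⧸ H) ∉ MulAction.orbit H q₁ := by
    intro h
    rw [← MulAction.orbit_eq_iff.2 h, hone, Set.ncard_singleton] at h1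
    exact ha h1.symm
  have hn2 : ((1 : G) : G ⧸ H) ∉ MulAction.orbit H q₂ := by
    intro h
    rw [← MulAction.orbit_eq_iff.2 h, hone, Set.ncard_singleton] at h2
    exact hb h2.symm
  have hd : Disjoint (MulAction.orbit H q₁) (MulAction.orbit H q₂) := by
    rw [Set.disjoint_left]
    intro y hy1 hy2
    have e1 := MulAction.orbit_eq_iff.2 hy1
    have e2 := MulAction.orbit_eq_iff.2 hy2
    apply hab
    rw [← h1, ← h2, ← e1, ← e2]
  have hc : (insert ((1 : G) : G ⧸ H) (MulAction.orbit H q₁ ∪ MulAction.orbit H q₂)).ncard = H.index := by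
    rw [Set.ncard_insert_of_notMem (fun h => h.elim hn1 hn2), Set.ncard_union_eq hd, h1, h2, hi]
    omega
  have hu : insert ((1 : G) : G ⧸ H) (MulAction.orbit H q₁ ∪ MulAction.orbit H q₂) = Set.univ := by
    refine Set.eq_of_subset_of_ncard_le (Set.subset_univ _) ?_ (Set.toFinite _)
    rw [hc, Set.ncard_univ]
    exact le_of_eq rfl
  have hq : q ∈ insert ((1 : G) : G ⧸ H) (MulAction.orbit H q₁ ∪ MulAction.orbit H q₂) := by
    rw [hu]
    exact Set.mem_univ q
  rcases hq with h | h | h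
  · exact Or.inl h
  · exact Or.inr (Or.inl h)
  · exact Or.inr (Or.inr h)

/-- conjugates into `H` -/
theorem exists_conj (hs : s.Prime) (hi : ¬ s ∣ H.index) {x : G} (hx : orderOf x = s) : ∃ g : G, g⁻¹ * x * g ∈ H := by
  have : Fact s.Prime := ⟨hs⟩
  have hpg : IsPGroup s ↥(Subgroup.zpowers x) := IsPGroup.of_card (n := 1) (by
    rw [Nat.card_zpowers, hx, pow_one])
  have h1 := hpg.card_modEq_card_fixedPoints (G ⧸ H)
  have h2 : Nat.card ↑(MulAction.fixedPoints ↥(Subgroup.zpowers x) (G ⧸ H)) ≠ 0 := by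
    intro h
    rw [h] at h1
    exact hi ((Nat.modEq_zero_iff_dvd).1 h1)
  obtain ⟨q, hq⟩ : Nonempty ↑(MulAction.fixedPoints ↥(Subgroup.zpowers x) (G ⧸ H)) := by
    rw [← not_isEmpty_iff]
    intro h
    exact h2 (Nat.card_eq_zero.2 (Or.inl h))
  induction q using QuotientGroup.induction_on with
  | H g =>
    have h3 : x • ((g : G) : G ⧸ H) = ((g : G) : G ⧸ H) := hq ⟨x, Subgroup.mem_zpowers x⟩
    refine ⟨g, ?_⟩
    rw [smul_mk, eq_comm, QuotientGroup.eq] at h3
    rwa [← mul_assoc] at h3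

theorem orderOf_conj (g x : G) : orderOf (g⁻¹ * x * g) = orderOf x := by
  have := (orderOf_injective (MulAut.conj g⁻¹).toMonoidHom (MulAut.conj g⁻¹).injective x)
  rw [← this]
  show _ = orderOf (g⁻¹ * x * g⁻¹⁻¹)
  rw [inv_inv]

theorem dvd_card_of_mem {x : G} (hx : orderOf x = r) (h : x ∈ H) : r ∣ Nat.card H := by
  rw [← hx, ← Subgroup.orderOf_mk x h]
  exact orderOf_dvd_natCard _

/-- an element of order `s` of `H` fixes no point of an orbit of length divisible by `s` -/
theorem false_of_fix (hsq : ¬ s ^ 2 ∣ Nat.card G) {x : G} (hx : orderOf x = s) (hxH : x ∈ H) {q : G ⧸ H}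
    (hq : x • q = q) (hd : s ∣ (MulAction.orbit H q).ncard) : False := by
  apply hsq
  refine dvd_trans ?_ (Subgroup.card_subgroup_dvd_card H)
  have h1 := orbit_stab (N := H) q
  rw [← h1, pow_two]
  refine mul_dvd_mul hd ?_
  have h2 : (⟨x, hxH⟩ : H) ∈ MulAction.stabilizer H q := hq
  rw [← hx, ← Subgroup.orderOf_mk x hxH, ← Subgroup.orderOf_mk _ h2]
  exact orderOf_dvd_natCard _

/-- **One fixed point.** -/
theorem nonAdj_of_suborbits (hs : s.Prime) (hsq : ¬ s ^ 2 ∣ Nat.card G) (hi : ¬ s ∣ H.index)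
    (ho : ∀ q : G ⧸ H, q ≠ ((1 : G) : G ⧸ H) → s ∣ (MulAction.orbit H q).ncard) (hr : ¬ r ∣ Nat.card H) :
    NonAdj G r s := by
  intro y x hy hx hyx
  obtain ⟨g, hg⟩ := exists_conj hs hi hx
  set x' := g⁻¹ * x * g with hx'
  set y' := g⁻¹ * y * g with hy'
  have hxy : x' * y' = y' * x' := by
    rw [hx', hy']
    calc g⁻¹ * x * g * (g⁻¹ * y * g) = g⁻¹ * (x * y) * g := by group
      _ = g⁻¹ * (y * x) * g := by rw [hyx]
      _ = _ := by group
  have hx'o : orderOf x' = s := (orderOf_conj g x).trans hx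
  have hy'o : orderOf y' = r := (orderOf_conj g y).trans hy
  by_cases h1 : y' • ((1 : G) : G ⧸ H) = ((1 : G) : G ⧸ H)
  · exact hr (dvd_card_of_mem hy'o ((smul_one_eq y').1 h1))
  · refine false_of_fix hsq hx'o hg (q := y' • ((1 : G) : G ⧸ H)) ?_ (ho _ h1)
    rw [← mul_smul, hxy, mul_smul, (smul_one_eq x').2 hg]

/-- rank 3 -/
theorem nonAdj_of_rank {a b : ℕ} (hs : s.Prime) (hsq : ¬ s ^ 2 ∣ Nat.card G) (hix : H.index = 1 + a + b)
    {q₁ q₂ : G ⧸ H} (h1 : (MulAction.orbit H q₁).ncard = a) (h2 : (MulAction.orbit H q₂).ncard = b)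
    (ha : a ≠ 1) (hb : b ≠ 1) (hab : a ≠ b) (hsa : s ∣ a) (hsb : s ∣ b) (hr : ¬ r ∣ Nat.card H) : NonAdj G r s := by
  refine nonAdj_of_suborbits (H := H) hs hsq ?_ ?_ hr
  · rw [hix, add_assoc]
    intro h
    exact hs.one_lt.ne' (Nat.dvd_one.1 ((Nat.dvd_add_left (dvd_add hsa hsb)).1 h))
  · intro q hq
    rcases cover hix h1 h2 ha hb hab q with h | h | h
    · exact absurd h hq
    · rw [MulAction.orbit_eq_iff.2 h, h1]
      exact hsa
    · rw [MulAction.orbit_eq_iff.2 h, h2]
      exact hsb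

/-- **The number of fixed points of an element of order `s` on an orbit of `H` divides `|H|`.** -/
theorem ncard_fix_dvd (hs : s.Prime) (hsq : ¬ s ^ 2 ∣ Nat.card G) {x : G} (hx : orderOf x = s) (hxH : x ∈ H) {q : G ⧸ H}
    (hq : x • q = q) : {p | p ∈ MulAction.orbit H q ∧ x • p = p}.ncard ∣ Nat.card H := by
  set x₀ : H := ⟨x, hxH⟩ with hx₀
  have hx₀o : orderOf x₀ = s := by rw [hx₀, Subgroup.orderOf_mk, hx]
  set N := Subgroup.normalizer ((Subgroup.zpowers x₀ : Subgroup H) : Set H) with hN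
  have hsqH : ∀ S : Subgroup H, ¬ s ^ 2 ∣ Nat.card ↥S := fun S h =>
    hsq ((h.trans (Subgroup.card_subgroup_dvd_card S)).trans (Subgroup.card_subgroup_dvd_card H))
  have hx₀S : x₀ ∈ MulAction.stabilizer H q := hq
  have key : {p | p ∈ MulAction.orbit H q ∧ x • p = p} = MulAction.orbit N q := by
    ext p
    constructor
    · rintro ⟨⟨h, rfl⟩, hp⟩
      have h1 : h⁻¹ * x₀ * h ∈ MulAction.stabilizer H q := by
        rw [MulAction.mem_stabilizer_iff, mul_smul, mul_smul]
        have h2 : x₀ • h • q = h • q := hp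
        rw [h2, inv_smul_smul]
      obtain ⟨k, hk, hk'⟩ := Cfsg.Agent.CpAutBig.Small.conj_of_sylow hs (MulAction.stabilizer H q) (hsqH _)
        (x := x₀) (y := h⁻¹ * x₀ * h) hx₀o ((orderOf_conj h x₀).trans hx₀o) hx₀S h1
      -- `(h k) x₀ (h k)⁻¹ ∈ ⟨x₀⟩`
      have h3 : (h * k) * x₀ * (h * k)⁻¹ ∈ Subgroup.zpowers x₀ := by
        obtain ⟨n, hn⟩ := hk'
        refine ⟨n, ?_⟩
        have hn' : (h⁻¹ * x₀ * h) ^ n = k * x₀ * k⁻¹ := hn
        have e : (h⁻¹ * x₀ * h) ^ n = h⁻¹ * x₀ ^ n * h := by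
          have := conj_zpow (i := n) (a := h⁻¹) (b := x₀)
          rwa [inv_inv] at this
        show x₀ ^ n = _
        rw [e] at hn'
        calc x₀ ^ n = h * (h⁻¹ * x₀ ^ n * h) * h⁻¹ := by group
          _ = h * (k * x₀ * k⁻¹) * h⁻¹ := by rw [hn']
          _ = _ := by group
      have hmem : h * k ∈ N := by
        rw [hN]
        have h4 : (Subgroup.zpowers x₀).map (MulAut.conj (h * k)).toMonoidHom = Subgroup.zpowers x₀ := by
          apply Subgroup.eq_of_le_of_card_ge
          · rw [MonoidHom.map_zpowers, Subgroup.zpowers_le]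
            exact h3
          · rw [Subgroup.card_map_of_injective (MulAut.conj (h * k)).injective]
        rw [Subgroup.mem_normalizer_iff]
        intro u
        constructor
        · intro hu
          rw [← h4]
          exact ⟨u, hu, rfl⟩
        · intro hu
          rw [← h4] at hu
          obtain ⟨v, hv, hv'⟩ := hu
          have h5 : h * k * v * (h * k)⁻¹ = h * k * u * (h * k)⁻¹ := hv'
          have h6 : v = u := mul_left_cancel (mul_right_cancel h5)
          rwa [← h6]
      refine ⟨⟨h * k, hmem⟩, ?_⟩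
      show (h * k) • q = h • q
      rw [mul_smul, MulAction.mem_stabilizer_iff.1 hk]
    · rintro ⟨⟨n, hn⟩, rfl⟩
      refine ⟨⟨n, rfl⟩, ?_⟩
      show x • (n : G) • q = (n : G) • q
      have h1 : n⁻¹ * x₀ * n ∈ Subgroup.zpowers x₀ := by
        have := (Subgroup.mem_normalizer_iff.1 (inv_mem hn) x₀).1 (Subgroup.mem_zpowers x₀)
        rwa [inv_inv] at this
      have h2 : n⁻¹ * x₀ * n ∈ MulAction.stabilizer H q := by
        have : Subgroup.zpowers x₀ ≤ MulAction.stabilizer H q := by rw [Subgroup.zpowers_le]; exact hx₀S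
        exact this h1
      have h3 : (n⁻¹ * x₀ * n) • q = q := h2
      have h4 : x₀ • n • q = n • q := by
        calc x₀ • n • q = n • (n⁻¹ * x₀ * n) • q := by
              rw [← mul_smul, ← mul_smul]
              congr 1
              group
          _ = n • q := by rw [h3]
      exact h4
  rw [key]
  have h1 := orbit_stab (N := N) q
  exact (Dvd.intro _ h1).trans (Subgroup.card_subgroup_dvd_card N)

end Cfsg.Agent.H728.DghpFix
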