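import Cfsg.Agent.H728.DghpTwA
import Cfsg.Agent.H728.DghpTwelve
import Cfsg.Agent.S1068

/-!
# The row ²F₄ (helper728)
-/

set_option autoImplicit false

namespace Cfsg.Agent.H728.DghpTwB

open Cfsg.Agent.H728.DghpLem Cfsg.Agent.H728.DghpMat Cfsg.Agent.H728.DghpNum Cfsg.Agent.H728.DghpRow
  Cfsg.Agent.H518.Dghp Cfsg.Agent.H728.DghpCent Cfsg.Agent.H728.DghpUntw Cfsg.Agent.H728.DghpTwA
  Cfsg.Agent.H728.DghpTwelve
open Cfsg Cfsg.Lie Cfsg.Agent.Nodes.RGDChev Cfsg.Agent.H129.TorusChar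
  Cfsg.Agent.ChevalleyStructure.CoxeterGeomTypes Cfsg.Agent.ChevalleyStructure Cfsg.Agent.ChevalleyStructure.Elts

/-- the Sylow subgroups of rank one are cyclic -/
theorem sylow_cyclic {F : Type*} [Field F] [Fintype F] {q : ℕ} (hq : Fintype.card F = q)
    (c : Cfsg.Lie.ChevalleyDatum × List ℕ)
    (hc : c ∈ [(Cfsg.Lie.chevG2, [2, 6]), (Cfsg.Lie.chevB2, [2, 4]), (Cfsg.Lie.chevD4, [2, 4, 4, 6]), (Cfsg.Lie.chevF4, [2, 6, 8, 12]),
      (Cfsg.Lie.chevE6, [2, 5, 6, 8, 9, 12]), (Cfsg.Lie.chevE7, [2, 6, 8, 10, 12, 14, 18]), (Cfsg.Lie.chevE8, [2, 8, 12, 14, 18, 20, 24, 30])])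
    {e r : ℕ} [Fact r.Prime] (h : Ppd q e r) (hrW : ¬ r ∣ c.2.prod) (hlen : (c.2.filter (fun n => e ∣ n)).length ≤ 1)
    (hrG : r ∣ Nat.card ↥(c.1.group F)) (S : Sylow r ↥(c.1.group F)) : IsCyclic ↥(S : Subgroup ↥(c.1.group F)) := by
  have h1 := S2378.result hq c hc r h.ndvd hrW hrG S
  rw [h.ord] at h1
  obtain ⟨e1⟩ := h1
  generalize (c.2.filter (fun n => e ∣ n)).length = n at e1 hlen
  have h2 : IsCyclic (Fin n → Multiplicative (ZMod (r ^ padicValNat r
      ((Polynomial.cyclotomic e ℤ).eval (q : ℤ)).natAbs))) := by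
    interval_cases n
    · infer_instance
    · refine isCyclic_of_injective (Pi.evalMonoidHom _ (0 : Fin 1)) fun a b hab => ?_
      funext i
      rw [Fin.fin_one_eq_zero i]
      exact hab
  exact isCyclic_of_injective e1.toMonoidHom e1.injective

/-- elements of prime power order -/
theorem exists_order_pow {G G' : Type*} [Group G] [Finite G] [Group G'] [Finite G'] {r a : ℕ} [Fact r.Prime]
    {f : G →* G'} (hf : Function.Injective f) (hc : ∀ S : Sylow r G', IsCyclic ↥(S : Subgroup G'))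
    (h : r ^ a ∣ Nat.card G) : ∃ x : G, orderOf x = r ^ a := by
  obtain ⟨P, hP⟩ := Sylow.exists_subgroup_card_pow_prime r h
  have hPg : IsPGroup r ↥(P.map f) := (IsPGroup.of_card hP).map f
  obtain ⟨S, hS⟩ := hPg.exists_le_sylow
  have := hc S
  have h1 : IsCyclic ↥(P.map f) := isCyclic_of_injective (Subgroup.inclusion hS) (Subgroup.inclusion_injective hS)
  have h2 : IsCyclic ↥P := isCyclic_of_injective (P.equivMapOfInjective f hf).toMonoidHom
    (P.equivMapOfInjective f hf).injective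
  obtain ⟨x, hx⟩ := h2.exists_generator
  refine ⟨x, ?_⟩
  rw [Subgroup.orderOf_coe, ← hP, ← Nat.card_zpowers]
  have h3 : Subgroup.zpowers x = ⊤ := by
    rw [eq_top_iff]
    exact fun y _ => hx y
  rw [h3, Subgroup.card_top]

theorem row_2F4 {K : Type*} [Field K] [Fintype K] {m : ℕ} (hm : 1 ≤ m) (hK : Fintype.card K = 2 ^ (2 * m + 1)) :
    Core ↥(twistedF4 K (2 ^ m)) := by
  set q := 2 ^ (2 * m + 1) with hqdef
  have hq8 : 8 ≤ q := by
    have : 2 ^ 3 ≤ 2 ^ (2 * m + 1) := Nat.pow_le_pow_right (by norm_num) (by omega)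
    omega
  obtain ⟨r, a, hr, ha, hra, hrdvd⟩ := exists_big (q := q) (by omega)
  obtain ⟨s, hs⟩ := exists_ppd (q := q) (e := 6) (by omega) (by norm_num) (by omega)
  have hr1 : 13 ≤ r := hr.le_of (by decide)
  have hs1 : 7 ≤ s := hs.le_of (by decide)
  have hs12 : ¬ s ∣ 12 := fun h => by
    have h2 : (12 : ℕ) = 2 ^ 2 * 3 := by norm_num
    rw [h2] at h
    rcases (Nat.Prime.dvd_mul hs.prime).1 h with h | h
    · have := Nat.le_of_dvd (by norm_num) (hs.prime.dvd_of_dvd_pow h); omega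
    · have := Nat.le_of_dvd (by norm_num) h; omega
  have hcard := Cfsg.Agent.S1068.result (K := K) (m := m) hK
  rw [← hqdef] at hcard
  have hN : Fintype.card chevF4.Idx = 52 := card_idx _
  have hp : IsType chevF4 4 CoxeterMatrix.F₄ := by simp [IsType, typeList]
  have hle : twistedF4 K (2 ^ m) ≤ chevF4.group K := genSubgroup_le hp.inList _
  have hinc := Subgroup.inclusion_injective hle
  have : Fact r.Prime := ⟨hr.prime⟩
  have h6 : q ^ 6 + 1 = (q ^ 2 + 1) * (q ^ 4 - q ^ 2 + 1) := by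
    have h0 : q ^ 2 ≤ q ^ 4 := Nat.pow_le_pow_right (by omega) (by norm_num)
    zify [h0]
    ring
  have hraG : r ^ a ∣ Nat.card ↥(twistedF4 K (2 ^ m)) := by
    rw [hcard, h6]
    exact (hrdvd.mul_left _).mul_left _
  have hrF : r ∣ Nat.card ↥(chevF4.group K) := by
    rw [S1062.result (F := K) hK]
    exact ((hr.dvd_iff 12).2 dvd_rfl).mul_left _
  refine core_wt (k := 1) (φ := (twistedF4 K (2 ^ m)).subtype) (twistedF4 K (2 ^ m)).subtype_injective
    (by rw [pow_one]; exact hK) one_ne_zero hr hs ?_ (by norm_num) ?_ ?_ ?_ ha (by rw [hN]; exact hra) ?_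
  · rw [hcard]
    exact ((dvd_add_one hs (k := 3) (by norm_num) (by norm_num)).mul_left _).mul_right _ |>.mul_right _
  · refine NonAdj.of_injective ?_ hinc
    exact nonAdj (l := 4) (M := CoxeterMatrix.F₄) hp card_F4 (by norm_num) one_ne_zero
      invC_F4 hK hr hs (by norm_num) (by decide)
      (not_dvd_list (L := [2, 6, 8, 12]) hr.prime hr1 (by decide)) hs12
  · exact elem_cyclic_of_injective (elem_cyclic hK (chevF4, [2, 6, 8, 12]) (by simp) hr
      (not_dvd_list hr.prime hr1 (by decide)) (by decide)) hinc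
  · rw [hN]
    exact lcm_gt' hs.prime (B := 7) (by norm_num; exact hs12) hs1 (by norm_num)
  · exact exists_order_pow (G' := ↥(chevF4.group K)) hinc (sylow_cyclic hK (chevF4, [2, 6, 8, 12]) (by simp) hr
      (not_dvd_list hr.prime hr1 (by decide)) (by decide) hrF) hraG

end Cfsg.Agent.H728.DghpTwB
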