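import Cfsg.Agent.H728.DghpRow
import Cfsg.Agent.H728.DghpCent
import Cfsg.Agent.S2378

/-!
# The rows G₂, F₄, E₆, E₈ (helper728)
-/

set_option autoImplicit false

namespace Cfsg.Agent.H728.DghpUntw

open Cfsg.Agent.H728.DghpLem Cfsg.Agent.H728.DghpMat Cfsg.Agent.H728.DghpNum Cfsg.Agent.H728.DghpRow
  Cfsg.Agent.H518.Dghp Cfsg.Agent.H728.DghpCent
open Cfsg Cfsg.Lie Cfsg.Agent.Nodes.RGDChev Cfsg.Agent.H129.TorusChar
  Cfsg.Agent.ChevalleyStructure.CoxeterGeomTypes

/-- the Sylow subgroups of rank one -/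
theorem elem_cyclic {F : Type*} [Field F] [Fintype F] {q : ℕ} (hq : Fintype.card F = q)
    (c : Cfsg.Lie.ChevalleyDatum × List ℕ)
    (hc : c ∈ [(Cfsg.Lie.chevG2, [2, 6]), (Cfsg.Lie.chevB2, [2, 4]), (Cfsg.Lie.chevD4, [2, 4, 4, 6]), (Cfsg.Lie.chevF4, [2, 6, 8, 12]),
      (Cfsg.Lie.chevE6, [2, 5, 6, 8, 9, 12]), (Cfsg.Lie.chevE7, [2, 6, 8, 10, 12, 14, 18]), (Cfsg.Lie.chevE8, [2, 8, 12, 14, 18, 20, 24, 30])])
    {e r : ℕ} (h : Ppd q e r) (hrW : ¬ r ∣ c.2.prod) (hlen : (c.2.filter (fun n => e ∣ n)).length ≤ 1)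
    (P : Subgroup ↥(c.1.group F)) (hP : Elem r P) : IsCyclic ↥P := by
  have : Fact r.Prime := ⟨h.prime⟩
  refine hP.isCyclic fun S => ?_
  by_cases hrG : r ∣ Nat.card ↥(c.1.group F)
  · have h1 := S2378.result hq c hc r h.ndvd hrW hrG S
    rw [h.ord] at h1
    obtain ⟨e1⟩ := h1
    generalize (c.2.filter (fun n => e ∣ n)).length = n at e1 hlen
    have h2 : IsCyclic (Fin n → Multiplicative (ZMod (r ^ padicValNat r
        ((Polynomial.cyclotomic e ℤ).eval (q : ℤ)).natAbs))) := by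
      interval_cases n
      · infer_instance
      · refine isCyclic_of_injective (Pi.evalMonoidHom _ (0 : Fin 1)) fun a b hab => ?_
        funext i
        rw [Fin.fin_one_eq_zero i]
        exact hab
    exact isCyclic_of_injective e1.toMonoidHom e1.injective
  · have h1 : Nat.card ↥(S : Subgroup ↥(c.1.group F)) = 1 := by
      obtain ⟨n, hn⟩ := IsPGroup.iff_card.1 S.isPGroup'
      rcases Nat.eq_zero_or_pos n with rfl | hn0
      · rw [hn, pow_zero]
      · exfalso
        apply hrG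
        exact ((dvd_pow_self r hn0.ne').trans (by rw [← hn])).trans (Subgroup.card_subgroup_dvd_card _)
    have : Subsingleton ↥(S : Subgroup ↥(c.1.group F)) := (Nat.card_eq_one_iff_unique.1 h1).1
    exact isCyclic_of_subsingleton

variable {D : ChevalleyDatum} {l : ℕ} {M : CoxeterMatrix (Fin l)} (hp : IsType D l M) 

include hp in
theorem nonAdj {wN : ℕ} (hW : Nat.card M.Group = wN) (hwN : wN ≠ 0) {d : ℕ} (hd : d ≠ 0) {B : Fin l → Fin l → ℤ}
    (hB : InvC D l d B) {F : Type*} [Field F] [Fintype F] {q : ℕ} (hq : Fintype.card F = q) {e f r s : ℕ}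
    (hr : Ppd q e r) (hs : Ppd q f s) (hef : e ≠ f) (he : e.totient = l) (hrW : ¬ r ∣ wN) (hse : ¬ s ∣ e) :
    NonAdj ↥(D.group F) r s := by
  have : Finite M.Group := Nat.finite_of_card_ne_zero (by rw [hW]; exact hwN)
  have hq' : Nat.card F = q := by rw [Nat.card_eq_fintype_card, hq]
  refine nonAdj_of_card fun x hx h1 => ?_
  have h2 := card_centralizer_dvd hp M.toCoxeterSystem hd hB (F := F) hr.prime (by rw [hq']; exact hr.ndvd) hx
    (by rw [hW]; exact hrW) (m := e) hr.pos he hr.not_dvd (by rw [hq']; exact hr.cyc_dvd)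
  rw [hq'] at h2
  exact hs.not_dvd_cyc_nat hse hef (h1.trans h2)

theorem not_dvd_list {r B : ℕ} (hr : r.Prime) (hB : B ≤ r) {L : List ℕ} (hL : ∀ n ∈ L, 0 < n ∧ n < B) : ¬ r ∣ L.prod := by
  rw [hr.prime.dvd_prod_iff]
  rintro ⟨n, hn, h1⟩
  have := Nat.le_of_dvd (hL n hn).1 h1
  have := (hL n hn).2
  omega

theorem card_idx (D : ChevalleyDatum) : Fintype.card D.Idx = D.rank + D.nroots := by
  show Fintype.card (Fin _ ⊕ Fin _) = _
  simp

/-- the group as a matrix group -/
theorem inj (D : ChevalleyDatum) (F : Type*) [Field F] : Function.Injective (D.group F).subtype :=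
  (D.group F).subtype_injective

theorem dvd_of_gcd {r a n A B : ℕ} (hr : r.Prime) (ha : a ≠ 0) (har : a < r) (h : Nat.gcd a n * A = B)
    (hB : r ∣ B) : r ∣ A := by
  rw [← h] at hB
  rcases (Nat.Prime.dvd_mul hr).1 hB with h1 | h1
  · have h2 := Nat.le_of_dvd (Nat.pos_of_ne_zero ha) (h1.trans (Nat.gcd_dvd_left a n))
    omega
  · exact h1

variable {F : Type*} [Field F] [Fintype F]

theorem row_F4 : Core ↥(chevF4.group F) := by
  have hq2 : 2 ≤ Fintype.card F := Fintype.one_lt_card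
  obtain ⟨r, hr⟩ := exists_ppd (q := Fintype.card F) (e := 12) hq2 (by norm_num) (by omega)
  obtain ⟨s, hs⟩ := exists_ppd (q := Fintype.card F) (e := 8) hq2 (by norm_num) (by omega)
  have hr1 : 13 ≤ r := hr.le_of (by decide)
  have hs1 : 17 ≤ s := hs.le_of (by decide)
  have hcard := Cfsg.Agent.S1062.result (F := F) rfl
  have hN : Fintype.card chevF4.Idx = 52 := card_idx _
  refine core_cyc (k := 1) (inj chevF4 F) (by rw [pow_one]) one_ne_zero hr hs ?_ ?_ (by norm_num) ?_ ?_ ?_ ?_ ?_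
  · rw [hcard]
    exact ((hr.dvd_iff 12).2 dvd_rfl).mul_left _
  · rw [hcard]
    exact ((((hs.dvd_iff 8).2 dvd_rfl).mul_left _).mul_right _)
  · exact nonAdj (l := 4) (M := CoxeterMatrix.F₄) (by simp [IsType, typeList]) card_F4 (by norm_num) one_ne_zero
      invC_F4 rfl hr hs (by norm_num) (by decide)
      (not_dvd_list (L := [2, 6, 8, 12]) hr.prime hr1 (by decide)) (fun h => by
        have := Nat.le_of_dvd (by norm_num) h; omega)
  · exact elem_cyclic rfl (chevF4, [2, 6, 8, 12]) (by simp) hr (not_dvd_list hr.prime hr1 (by decide)) (by decide)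
  · exact elem_cyclic rfl (chevF4, [2, 6, 8, 12]) (by simp) hs (not_dvd_list hs.prime hs1 (by decide)) (by decide)
  · rw [hN]
    exact lcm_gt hs.prime (by norm_num) (by norm_num; omega) hs1 (by norm_num)
  · rw [hN]
    exact lcm_gt hr.prime (by norm_num) (by norm_num; omega) hr1 (by norm_num)

theorem row_G2 (h3 : 3 ≤ Fintype.card F) : Core ↥(chevG2.group F) := by
  have hq2 : 2 ≤ Fintype.card F := Fintype.one_lt_card
  obtain ⟨r, hr⟩ := exists_ppd (q := Fintype.card F) (e := 6) hq2 (by norm_num) (by omega)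
  obtain ⟨s, hs⟩ := exists_ppd (q := Fintype.card F) (e := 3) hq2 (by norm_num) (by omega)
  have hr1 : 7 ≤ r := hr.le_of (by decide)
  have hs1 : 7 ≤ s := hs.le_of (by decide)
  have hcard := Cfsg.Agent.S1059.result (F := F) rfl
  have hN : Fintype.card chevG2.Idx = 14 := card_idx _
  refine core_cyc (k := 1) (inj chevG2 F) (by rw [pow_one]) one_ne_zero hr hs ?_ ?_ (by norm_num) ?_ ?_ ?_ ?_ ?_
  · rw [hcard]
    exact ((hr.dvd_iff 6).2 dvd_rfl).mul_left _
  · rw [hcard]
    exact ((hs.dvd_iff 6).2 (by norm_num)).mul_left _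
  · exact nonAdj (l := 2) (M := CoxeterMatrix.G₂) (by simp [IsType, typeList]) card_G2 (by norm_num) one_ne_zero
      invC_G2 rfl hr hs (by norm_num) (by decide)
      (not_dvd_list (L := [2, 6]) hr.prime hr1 (by decide)) (fun h => by
        have := Nat.le_of_dvd (by norm_num) h; omega)
  · exact elem_cyclic rfl (chevG2, [2, 6]) (by simp) hr (not_dvd_list hr.prime hr1 (by decide)) (by decide)
  · exact elem_cyclic rfl (chevG2, [2, 6]) (by simp) hs (not_dvd_list hs.prime hs1 (by decide)) (by decide)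
  · rw [hN]
    exact lcm_gt hs.prime (by norm_num) (by norm_num; omega) hs1 (by norm_num)
  · rw [hN]
    exact lcm_gt hr.prime (by norm_num) (by norm_num; omega) hr1 (by norm_num)

theorem row_E6 : Core ↥(chevE6.group F) := by
  have hq2 : 2 ≤ Fintype.card F := Fintype.one_lt_card
  obtain ⟨r, hr⟩ := exists_ppd (q := Fintype.card F) (e := 9) hq2 (by norm_num) (by omega)
  obtain ⟨s, hs⟩ := exists_ppd (q := Fintype.card F) (e := 8) hq2 (by norm_num) (by omega)
  have hr1 : 19 ≤ r := hr.le_of (by decide)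
  have hs1 : 17 ≤ s := hs.le_of (by decide)
  have hcard := Cfsg.Agent.S1063.result (F := F) rfl
  have hN : Fintype.card chevE6.Idx = 78 := card_idx _
  refine core_cyc (k := 1) (inj chevE6 F) (by rw [pow_one]) one_ne_zero hr hs ?_ ?_ (by norm_num) ?_ ?_ ?_ ?_ ?_
  · refine dvd_of_gcd hr.prime (by norm_num) (by omega) hcard ?_
    exact (((hr.dvd_iff 9).2 dvd_rfl).mul_left _).mul_right _
  · refine dvd_of_gcd hs.prime (by norm_num) (by omega) hcard ?_
    exact ((((hs.dvd_iff 8).2 dvd_rfl).mul_left _).mul_right _).mul_right _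
  · exact nonAdj (l := 6) (M := CoxeterMatrix.E₆) (by simp [IsType, typeList]) card_E6 (by norm_num) (d := 3)
      (by norm_num) invC_E6 rfl hr hs (by norm_num) (by decide)
      (not_dvd_list (L := [2, 5, 6, 8, 9, 12]) hr.prime hr1 (by decide)) (fun h => by
        have := Nat.le_of_dvd (by norm_num) h; omega)
  · exact elem_cyclic rfl (chevE6, [2, 5, 6, 8, 9, 12]) (by simp) hr (not_dvd_list hr.prime hr1 (by decide)) (by decide)
  · exact elem_cyclic rfl (chevE6, [2, 5, 6, 8, 9, 12]) (by simp) hs (not_dvd_list hs.prime hs1 (by decide)) (by decide)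
  · rw [hN]
    exact lcm_gt hs.prime (by norm_num) (by norm_num; omega) hs1 (by norm_num)
  · rw [hN]
    exact lcm_gt hr.prime (by norm_num) (by norm_num; omega) hr1 (by norm_num)

theorem row_E8 : Core ↥(chevE8.group F) := by
  have hq2 : 2 ≤ Fintype.card F := Fintype.one_lt_card
  obtain ⟨r, hr⟩ := exists_ppd (q := Fintype.card F) (e := 30) hq2 (by norm_num) (by omega)
  obtain ⟨s, hs⟩ := exists_ppd (q := Fintype.card F) (e := 24) hq2 (by norm_num) (by omega)
  have hr1 : 31 ≤ r := hr.le_of (by decide)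
  have hs1 : 73 ≤ s := hs.le_of (by decide)
  have hcard := Cfsg.Agent.S1065.result (F := F) rfl
  have hN : Fintype.card chevE8.Idx = 248 := card_idx _
  refine core_cyc (k := 1) (inj chevE8 F) (by rw [pow_one]) one_ne_zero hr hs ?_ ?_ (by norm_num) ?_ ?_ ?_ ?_ ?_
  · rw [hcard]
    exact ((hr.dvd_iff 30).2 dvd_rfl).mul_left _
  · rw [hcard]
    exact (((hs.dvd_iff 24).2 dvd_rfl).mul_left _).mul_right _
  · exact nonAdj (l := 8) (M := CoxeterMatrix.E₈) (by simp [IsType, typeList]) card_E8 (by norm_num) one_ne_zero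
      invC_E8 rfl hr hs (by norm_num) (by decide)
      (not_dvd_list (L := [2, 8, 12, 14, 18, 20, 24, 30]) hr.prime hr1 (by decide)) (fun h => by
        have := Nat.le_of_dvd (by norm_num) h; omega)
  · exact elem_cyclic rfl (chevE8, [2, 8, 12, 14, 18, 20, 24, 30]) (by simp) hr
      (not_dvd_list hr.prime hr1 (by decide)) (by decide)
  · exact elem_cyclic rfl (chevE8, [2, 8, 12, 14, 18, 20, 24, 30]) (by simp) hs
      (not_dvd_list hs.prime (by omega : 31 ≤ s) (by decide)) (by decide)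
  · rw [hN]
    exact lcm_gt hs.prime (by norm_num) (by norm_num; omega) hs1 (by norm_num)
  · rw [hN]
    exact lcm_gt hr.prime (by norm_num) (by norm_num; omega) hr1 (by norm_num)

end Cfsg.Agent.H728.DghpUntw
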