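import Cfsg.Agent.H728.DghpNA
import Cfsg.Agent.H728.DghpUntw

/-!
# The row E₇ (helper728)
-/

set_option autoImplicit false

namespace Cfsg.Agent.H728.DghpE7

open Cfsg.Agent.H728.DghpLem Cfsg.Agent.H728.DghpMat Cfsg.Agent.H728.DghpNum Cfsg.Agent.H728.DghpRow
  Cfsg.Agent.H518.Dghp Cfsg.Agent.H728.DghpCent Cfsg.Agent.H728.DghpUntw
open Cfsg Cfsg.Lie Cfsg.Agent.Nodes.RGDChev Cfsg.Agent.H129.TorusChar
  Cfsg.Agent.ChevalleyStructure.CoxeterGeomTypes

theorem not_dvd_W {r : ℕ} (hr : r.Prime) (h : 19 ≤ r) : ¬ r ∣ Nat.card CoxeterMatrix.E₇.Group := by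
  rw [card_E7]
  exact not_dvd_list (L := [2, 6, 8, 10, 12, 14, 18]) hr h (by decide)

theorem row_E7 {F : Type*} [Field F] [Fintype F] : Core ↥(chevE7.group F) := by
  have hq2 : 2 ≤ Fintype.card F := Fintype.one_lt_card
  obtain ⟨r, hr⟩ := exists_ppd (q := Fintype.card F) (e := 14) hq2 (by norm_num) (by omega)
  obtain ⟨s, hs⟩ := exists_ppd (q := Fintype.card F) (e := 18) hq2 (by norm_num) (by omega)
  have hr1 : 29 ≤ r := hr.le_of (by decide)
  have hs1 : 19 ≤ s := hs.le_of (by decide)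
  have hcard := Cfsg.Agent.S1064.result (F := F) rfl
  have hN : Fintype.card chevE7.Idx = 133 := card_idx _
  have hp : IsType chevE7 7 CoxeterMatrix.E₇ := by simp [IsType, typeList]
  refine core_cyc (k := 1) (inj chevE7 F) (by rw [pow_one]) one_ne_zero hr hs ?_ ?_ (by norm_num) ?_ ?_ ?_ ?_ ?_
  · refine dvd_of_gcd hr.prime (by norm_num) (by omega) hcard ?_
    exact (((hr.dvd_iff 14).2 dvd_rfl).mul_left _).mul_right _
  · refine dvd_of_gcd hs.prime (by norm_num) (by omega) hcard ?_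
    exact ((hs.dvd_iff 18).2 dvd_rfl).mul_left _
  · have : Finite CoxeterMatrix.E₇.Group := Nat.finite_of_card_ne_zero (by rw [card_E7]; norm_num)
    refine DghpNA.nonAdj_totient hp CoxeterMatrix.E₇.toCoxeterSystem (Nat.card_eq_fintype_card) hr hs (by norm_num)
      (not_dvd_W hr.prime (by omega)) (not_dvd_W hs.prime hs1) (by decide)
  · exact elem_cyclic rfl (chevE7, [2, 6, 8, 10, 12, 14, 18]) (by simp) hr
      (not_dvd_list hr.prime hr1 (by decide)) (by decide)
  · exact elem_cyclic rfl (chevE7, [2, 6, 8, 10, 12, 14, 18]) (by simp) hs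
      (not_dvd_list hs.prime hs1 (by decide)) (by decide)
  · rw [hN]
    exact lcm_gt hs.prime (by norm_num) (by norm_num; omega) hs1 (by norm_num)
  · rw [hN]
    exact lcm_gt hr.prime (by norm_num) (by norm_num; omega) hr1 (by norm_num)

end Cfsg.Agent.H728.DghpE7
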