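import Cfsg.Agent.H728.DghpUntw
import Cfsg.Agent.S1066

/-!
# The row ²E₆ (helper728)
-/

set_option autoImplicit false

namespace Cfsg.Agent.H728.DghpTwA

open Cfsg.Agent.H728.DghpLem Cfsg.Agent.H728.DghpMat Cfsg.Agent.H728.DghpNum Cfsg.Agent.H728.DghpRow
  Cfsg.Agent.H518.Dghp Cfsg.Agent.H728.DghpCent Cfsg.Agent.H728.DghpUntw
open Cfsg Cfsg.Lie Cfsg.Agent.Nodes.RGDChev Cfsg.Agent.H129.TorusChar
  Cfsg.Agent.ChevalleyStructure.CoxeterGeomTypes Cfsg.Agent.ChevalleyStructure Cfsg.Agent.ChevalleyStructure.Elts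

theorem genSubgroup_le {D : ChevalleyDatum} {F : Type*} [Field F] (hD : InList D) (S : Set (List (ℕ × F))) :
    D.genSubgroup F S ≤ D.group F := by
  rw [ChevalleyDatum.genSubgroup, Subgroup.closure_le]
  rintro g ⟨w, -, hw⟩
  have h1 : g = wordG hD w := Units.ext (hw.trans (coe_wordG hD w).symm)
  rw [h1]
  refine list_prod_mem fun x hx => ?_
  obtain ⟨p, -, rfl⟩ := List.mem_map.1 hx
  exact xG_mem_group hD p.1 p.2

theorem dvd_add_one {q k e r : ℕ} (h : Ppd q e r) (h2 : e ∣ 2 * k) (h1 : ¬ e ∣ k) : r ∣ q ^ k + 1 := by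
  have h3 := (h.dvd_iff (2 * k)).2 h2
  have h4 : q ^ (2 * k) - 1 = (q ^ k + 1) * (q ^ k - 1) := by
    rw [mul_comm 2 k, pow_mul, ← Nat.sq_sub_sq, one_pow]
  rw [h4] at h3
  exact ((Nat.Prime.dvd_mul h.prime).1 h3).resolve_right fun h5 => h1 ((h.dvd_iff k).1 h5)

theorem row_2E6 {K : Type*} [Field K] [Fintype K] {q : ℕ} (hq : IsPrimePow q) (hK : Fintype.card K = q ^ 2) :
    Core ↥(twistedE6 K q) := by
  have hq2 : 2 ≤ q := hq.two_le
  obtain ⟨r, hr⟩ := exists_ppd (q := q) (e := 18) hq2 (by norm_num) (by omega)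
  obtain ⟨s, hs⟩ := exists_ppd (q := q) (e := 10) hq2 (by norm_num) (by omega)
  have hr1 : 19 ≤ r := hr.le_of (by decide)
  have hs1 : 11 ≤ s := hs.le_of (by decide)
  have hcard := Cfsg.Agent.S1066.result (K := K) hq hK
  have hN : Fintype.card chevE6.Idx = 78 := card_idx _
  have hr' : Ppd (q ^ 2) 9 r := hr.pow 2 (by norm_num)
  have hs' : Ppd (q ^ 2) 5 s := hs.pow 2 (by norm_num)
  have hp : IsType chevE6 6 CoxeterMatrix.E₆ := by simp [IsType, typeList]
  have hle : twistedE6 K q ≤ chevE6.group K := genSubgroup_le hp.inList _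
  have hinc := Subgroup.inclusion_injective hle
  have hs5 : ∀ n ∈ [2, 5, 6, 8, 9, 12], 0 < n ∧ n < 13 := by decide
  have hsW : ¬ s ∣ [2, 5, 6, 8, 9, 12].prod := by
    intro h
    rw [hs.prime.prime.dvd_prod_iff] at h
    obtain ⟨n, hn, h1⟩ := h
    have h2 := Nat.le_of_dvd (hs5 n hn).1 h1
    have h3 := (hs5 n hn).2
    have h4 : s = 11 ∨ s = 12 := by omega
    rcases h4 with rfl | rfl
    · revert h1; revert n; decide
    · exact absurd hs.prime (by norm_num)
  refine core_cyc (k := 2) (φ := (twistedE6 K q).subtype) (twistedE6 K q).subtype_injective hK two_ne_zero hr hs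
    ?_ ?_ (by norm_num) ?_ ?_ ?_ ?_ ?_
  · refine dvd_of_gcd hr.prime (by norm_num) (by omega) hcard ?_
    exact (((dvd_add_one hr (k := 9) (by norm_num) (by norm_num))).mul_left _).mul_right _
  · refine dvd_of_gcd hs.prime (by norm_num) (by omega) hcard ?_
    exact (((((dvd_add_one hs (k := 5) (by norm_num) (by norm_num))).mul_left _).mul_right _).mul_right _).mul_right _
      |>.mul_right _
  · refine NonAdj.of_injective ?_ hinc
    exact nonAdj (l := 6) (M := CoxeterMatrix.E₆) hp card_E6 (by norm_num) (d := 3)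
      (by norm_num) invC_E6 hK hr' hs' (by norm_num) (by decide)
      (not_dvd_list (L := [2, 5, 6, 8, 9, 12]) hr.prime hr1 (by decide)) (fun h => by
        have := Nat.le_of_dvd (by norm_num) h; omega)
  · exact elem_cyclic_of_injective (elem_cyclic hK (chevE6, [2, 5, 6, 8, 9, 12]) (by simp) hr'
      (not_dvd_list hr.prime hr1 (by decide)) (by decide)) hinc
  · exact elem_cyclic_of_injective (elem_cyclic hK (chevE6, [2, 5, 6, 8, 9, 12]) (by simp) hs'
      hsW (by decide)) hinc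
  · rw [hN]
    exact lcm_gt hs.prime (by norm_num) (by norm_num; omega) hs1 (by norm_num)
  · rw [hN]
    exact lcm_gt hr.prime (by norm_num) (by norm_num; omega) hr1 (by norm_num)

end Cfsg.Agent.H728.DghpTwA
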