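import Cfsg.Agent.H728.DghpUntw
import Cfsg.Agent.H728.DghpE7
import Cfsg.Agent.H728.DghpTwA
import Cfsg.Agent.H728.DghpTwB
import Cfsg.Agent.H728.DghpTwD
import Cfsg.Agent.H728.DghpHall
import Cfsg.Prelude.Def_Classification2

/-!
# All exceptional rows (helper728)
-/

set_option autoImplicit false

namespace Cfsg.Agent.H728.DghpExc

open Cfsg Cfsg.Agent.H518.Dghp

universe u

variable {G : Type u} [Group G]

theorem core_isoChevG2 (h : Lie.IsoChevG2 G) : Core G := by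
  obtain ⟨F, _, _, h3, ⟨e⟩⟩ := h
  exact Core.congr e.symm (DghpUntw.row_G2 h3)

theorem core_isoF4 (h : Lie.IsoF4 G) : Core G := by
  obtain ⟨F, _, _, ⟨e⟩⟩ := h
  exact Core.congr e.symm DghpUntw.row_F4

theorem core_isoChevE6 (h : Lie.IsoChevE6 G) : Core G := by
  obtain ⟨F, _, _, ⟨e⟩⟩ := h
  exact Core.congr e.symm DghpUntw.row_E6

theorem core_isoE7 (h : Lie.IsoE7 G) : Core G := by
  obtain ⟨F, _, _, ⟨e⟩⟩ := h
  exact Core.congr e.symm DghpE7.row_E7

theorem core_isoE8 (h : Lie.IsoE8 G) : Core G := by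
  obtain ⟨F, _, _, ⟨e⟩⟩ := h
  exact Core.congr e.symm DghpUntw.row_E8

theorem core_iso2E6 (h : Lie.Iso2E6 G) : Core G := by
  obtain ⟨K, _, _, q, hq, hK, ⟨e⟩⟩ := h
  exact Core.congr e.symm (DghpTwA.row_2E6 hq hK)

theorem core_iso3D4 (h : Lie.Iso3D4 G) : Core G := by
  obtain ⟨K, _, _, q, hq, hK, ⟨e⟩⟩ := h
  exact Core.congr e.symm (DghpTwD.row_3D4 hq hK)

theorem core_isoSuzuki (h : Lie.IsoSuzuki G) : Core G := by
  obtain ⟨F, _, _, m, hm, hF, ⟨e⟩⟩ := h
  exact Core.congr e.symm (DghpHall.row_Sz hm hF)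

theorem core_isoRee (h : Lie.IsoRee G) : Core G := by
  obtain ⟨K, _, _, m, hm, hK, ⟨e⟩⟩ := h
  exact Core.congr e.symm (DghpHall.row_Ree hm hK)

theorem core_iso2F4 (h : Lie.Iso2F4 G) : Core G := by
  obtain ⟨K, _, _, m, hm, hK, ⟨e⟩⟩ := h
  exact Core.congr e.symm (DghpTwB.row_2F4 hm hK)

/-- **All exceptional groups** (the Tits group given). -/
theorem core_exceptional (hT : Lie.IsoTits G → Core G) (h : IsExceptionalLieType G) : Core G := by
  rcases h with h | h | h | h | h | h | h | h | h | h | h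
  · exact core_isoChevG2 h
  · exact core_isoF4 h
  · exact core_isoChevE6 h
  · exact core_isoE7 h
  · exact core_isoE8 h
  · exact core_iso2E6 h
  · exact core_iso3D4 h
  · exact core_isoSuzuki h
  · exact core_isoRee h
  · exact core_iso2F4 h
  · exact hT h

end Cfsg.Agent.H728.DghpExc
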