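import Cfsg.Agent.H728.DghpArith
import Cfsg.Agent.OddOrderLocal.PiCore

/-!
# The criterion for `r ≡ 3 (mod 4)` and elements of order 4 (helper728)

`r` an odd prime, `r ∥ |G|`, `4 ∤ r - 1`, no element of order `r` commutes with an involution, `r ∣ 2 ^ j - 1` for
`2 ^ j ∣ |G|`, `j > 0` only for `j = k`, `k` odd. Then an element of order `r` and an element of order 4 generate a
non-solvable group.

* `exists_sq` : `x`, `g` acting on an elementary abelian 2-group `P`, `g` an involution inverting `x`, `C_P(x) = 1` :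
  `|P|` is a square;
* `core_odd` : the criterion.
-/

set_option autoImplicit false

namespace Cfsg.Agent.H728.DghpFour

open Cfsg.Agent.H728.DghpLem Cfsg.Agent.H728.DghpMat Cfsg.Agent.H518.Dghp Cfsg.Agent.H728.DghpArith

section sq

variable {H : Type*} [Group H] {P : Subgroup H}

/-- `u ↦ u (t u t⁻¹)` -/
def norm (hab : ∀ u ∈ P, ∀ v ∈ P, u * v = v * u) (t : H) (ht : ∀ u ∈ P, t * u * t⁻¹ ∈ P) : ↥P →* ↥P where
  toFun u := ⟨u.1 * (t * u.1 * t⁻¹), mul_mem u.2 (ht _ u.2)⟩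
  map_one' := Subtype.ext (by
    show (1 : H) * (t * 1 * t⁻¹) = 1
    group)
  map_mul' u v := Subtype.ext (by
    show (u.1 * v.1) * (t * (u.1 * v.1) * t⁻¹) = u.1 * (t * u.1 * t⁻¹) * (v.1 * (t * v.1 * t⁻¹))
    calc (u.1 * v.1) * (t * (u.1 * v.1) * t⁻¹) = u.1 * (v.1 * (t * u.1 * t⁻¹)) * (t * v.1 * t⁻¹) := by group
      _ = u.1 * ((t * u.1 * t⁻¹) * v.1) * (t * v.1 * t⁻¹) := by rw [hab _ v.2 _ (ht _ u.2)]
      _ = _ := by group)

theorem mem_ker_norm (hab : ∀ u ∈ P, ∀ v ∈ P, u * v = v * u) (h2 : ∀ u ∈ P, u * u = 1) {t : H}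
    (ht : ∀ u ∈ P, t * u * t⁻¹ ∈ P) (u : ↥P) : u ∈ (norm hab t ht).ker ↔ t * u.1 * t⁻¹ = u.1 := by
  rw [MonoidHom.mem_ker]
  have hu := h2 u.1 u.2
  constructor
  · intro h
    have h1 : u.1 * (t * u.1 * t⁻¹) = 1 := congrArg Subtype.val h
    exact mul_left_cancel (h1.trans hu.symm)
  · intro h
    refine Subtype.ext ?_
    show u.1 * (t * u.1 * t⁻¹) = 1
    rw [h, hu]

theorem card_le [Finite H] (hab : ∀ u ∈ P, ∀ v ∈ P, u * v = v * u) (h2 : ∀ u ∈ P, u * u = 1) {t : H} (htt : t * t = 1)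
    (ht : ∀ u ∈ P, t * u * t⁻¹ ∈ P) : Nat.card ↥P ≤ Nat.card ↥(norm hab t ht).ker ^ 2 := by
  have h1 : Nat.card ↥P = Nat.card ↥(norm hab t ht).ker * Nat.card ↥(norm hab t ht).range := by
    rw [← Subgroup.card_mul_index (norm hab t ht).ker, Subgroup.index_ker]
  have h3 : (norm hab t ht).range ≤ (norm hab t ht).ker := by
    rintro _ ⟨u, rfl⟩
    rw [mem_ker_norm hab h2]
    show t * (u.1 * (t * u.1 * t⁻¹)) * t⁻¹ = u.1 * (t * u.1 * t⁻¹)
    calc t * (u.1 * (t * u.1 * t⁻¹)) * t⁻¹ = (t * u.1 * t⁻¹) * ((t * t) * u.1 * (t * t)⁻¹) := by group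
      _ = (t * u.1 * t⁻¹) * u.1 := by rw [htt]; group
      _ = _ := hab _ (ht _ u.2) _ u.2
  rw [h1, pow_two]
  exact Nat.mul_le_mul_left _ (Subgroup.card_le_of_le h3)

theorem exists_sq [Finite H] (hab : ∀ u ∈ P, ∀ v ∈ P, u * v = v * u) (h2 : ∀ u ∈ P, u * u = 1) {x g : H}
    (hgg : g * g = 1) (hgx : g * x * g⁻¹ = x⁻¹) (hx : ∀ u ∈ P, x * u * x⁻¹ ∈ P) (hg : ∀ u ∈ P, g * u * g⁻¹ ∈ P)
    (hfix : ∀ u ∈ P, x * u = u * x → u = 1) : ∃ c : ℕ, Nat.card ↥P = c ^ 2 := by
  have hk : (g * x) * (g * x) = 1 := by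
    have hgi : g⁻¹ = g := inv_eq_of_mul_eq_one_left hgg
    rw [hgi] at hgx
    calc (g * x) * (g * x) = (g * x * g) * x := by group
      _ = 1 := by rw [hgx, inv_mul_cancel]
  have hk' : ∀ u ∈ P, (g * x) * u * (g * x)⁻¹ ∈ P := fun u hu => by
    have h1 := hg _ (hx u hu)
    have e : g * (x * u * x⁻¹) * g⁻¹ = (g * x) * u * (g * x)⁻¹ := by group
    rwa [e] at h1
  have h1 := card_le hab h2 hgg hg
  have h3 := card_le hab h2 hk hk'
  set A := (norm hab g hg).ker with hA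
  set B := (norm hab (g * x) hk').ker with hB
  have hd : Disjoint A B := by
    rw [disjoint_iff, Subgroup.eq_bot_iff_forall]
    rintro u ⟨hu1, hu2⟩
    have e1 := (mem_ker_norm hab h2 hg u).1 hu1
    have e2 := (mem_ker_norm hab h2 hk' u).1 hu2
    have e3 : x * u.1 * x⁻¹ = u.1 := by
      have e4 : g * (x * u.1 * x⁻¹) * g⁻¹ = g * u.1 * g⁻¹ := by
        rw [e1]
        calc g * (x * u.1 * x⁻¹) * g⁻¹ = (g * x) * u.1 * (g * x)⁻¹ := by group
          _ = u.1 := e2
      exact mul_left_cancel (mul_right_cancel e4)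
    exact Subtype.ext (hfix _ u.2 (mul_inv_eq_iff_eq_mul.1 e3))
  have h4 : Nat.card ↥A * Nat.card ↥B ≤ Nat.card ↥P := by
    rw [← Nat.card_prod]
    exact Nat.card_le_card_of_injective _ (Subgroup.mul_injective_of_disjoint hd)
  have hA0 : 0 < Nat.card ↥A := Nat.card_pos
  have hB0 : 0 < Nat.card ↥B := Nat.card_pos
  obtain ⟨a, ha⟩ : ∃ a, a = Nat.card ↥A := ⟨_, rfl⟩
  obtain ⟨b, hb⟩ : ∃ b, b = Nat.card ↥B := ⟨_, rfl⟩
  obtain ⟨p, hp⟩ : ∃ p, p = Nat.card ↥P := ⟨_, rfl⟩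
  rw [← ha, ← hp] at h1
  rw [← hb, ← hp] at h3
  rw [← ha, ← hb, ← hp] at h4
  rw [← ha] at hA0
  rw [← hb] at hB0
  refine ⟨a, ?_⟩
  rw [← hp]
  have h5 : a * b ≤ b ^ 2 := h4.trans h3
  have h6 : a ≤ b := by
    rw [pow_two] at h5
    exact Nat.le_of_mul_le_mul_right h5 hB0
  have h7 : a * b ≤ a ^ 2 := h4.trans h1
  have h8 : b ≤ a := by
    rw [pow_two] at h7
    exact Nat.le_of_mul_le_mul_left h7 hA0
  have h9 : a = b := le_antisymm h6 h8
  subst h9
  rw [pow_two] at h1 ⊢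
  exact le_antisymm h1 h4

end sq

section main

variable {H : Type*} [Group H] [Finite H] {r k : ℕ}

/-- a 2-subgroup normalised by an element of order `r` -/
theorem dvd_card_sub_one (hr : r.Prime) (hna : NonAdj H r 2) {P : Subgroup H} (hP : IsPGroup 2 ↥P) {x : H}
    (hx : orderOf x = r) (hn : ∀ u ∈ P, x * u * x⁻¹ ∈ P) : r ∣ Nat.card ↥P - 1 := by
  have : Fact r.Prime := ⟨hr⟩
  have : Fact (Nat.Prime 2) := ⟨Nat.prime_two⟩
  have hxn : Subgroup.zpowers x ≤ Subgroup.normalizer (P : Set H) := by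
    rw [Subgroup.zpowers_le]
    rw [Subgroup.mem_normalizer_iff]
    intro u
    refine ⟨hn u, fun h => ?_⟩
    have hiter : ∀ n : ℕ, x ^ n * (x * u * x⁻¹) * (x ^ n)⁻¹ ∈ P := by
      intro n
      induction n with
      | zero => simpa using h
      | succ n ih =>
        have h1 := hn _ ih
        have e : x * (x ^ n * (x * u * x⁻¹) * (x ^ n)⁻¹) * x⁻¹ = x ^ (n + 1) * (x * u * x⁻¹) * (x ^ (n + 1))⁻¹ := by
          rw [pow_succ']; group
        rwa [e] at h1
    have h1 := hiter (orderOf x - 1)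
    have h2 : x ^ (orderOf x - 1) * x = 1 := by
      rw [← pow_succ, Nat.sub_add_cancel (orderOf_pos x), pow_orderOf_eq_one]
    have e : x ^ (orderOf x - 1) * (x * u * x⁻¹) * (x ^ (orderOf x - 1))⁻¹ =
        (x ^ (orderOf x - 1) * x) * u * (x ^ (orderOf x - 1) * x)⁻¹ := by group
    rw [e, h2] at h1
    simpa using h1
  let act : MulAction ↥(Subgroup.zpowers x) ↥P :=
    { smul := fun g u => ⟨g.1 * u.1 * g.1⁻¹, (Subgroup.mem_normalizer_iff.1 (hxn g.2) u.1).1 u.2⟩
      one_smul := fun u => Subtype.ext (by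
        show (1 : H) * u.1 * (1 : H)⁻¹ = u.1
        group)
      mul_smul := fun g g' u => Subtype.ext (by
        show (g.1 * g'.1) * u.1 * (g.1 * g'.1)⁻¹ = g.1 * (g'.1 * u.1 * g'.1⁻¹) * g.1⁻¹
        group) }
  have hpg : IsPGroup r ↥(Subgroup.zpowers x) := IsPGroup.of_card (n := 1) (by
    rw [Nat.card_zpowers, hx, pow_one])
  have h1 := hpg.card_modEq_card_fixedPoints ↥P
  -- the fixed points
  have h4 : MulAction.fixedPoints ↥(Subgroup.zpowers x) ↥P = {1} := by
    ext u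
    constructor
    · intro hu
      have h6 := hu ⟨x, Subgroup.mem_zpowers x⟩
      have h7 : x * u.1 * x⁻¹ = u.1 := congrArg Subtype.val h6
      have h8 : x * u.1 = u.1 * x := mul_inv_eq_iff_eq_mul.1 h7
      by_contra hne
      have hu1 : orderOf u ≠ 1 := fun h => hne (orderOf_eq_one_iff.1 h)
      obtain ⟨n, hn'⟩ := IsPGroup.iff_orderOf.1 hP u
      have hn0 : 0 < n := by
        rcases Nat.eq_zero_or_pos n with rfl | h0
        · exact absurd hn' (by rw [pow_zero]; exact hu1)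
        · exact h0
      have hv : orderOf ((u : H) ^ 2 ^ (n - 1)) = 2 := by
        have h9 : orderOf (u : H) = 2 ^ n := by rw [Subgroup.orderOf_coe]; exact hn'
        rw [orderOf_pow, h9, Nat.gcd_eq_right (pow_dvd_pow 2 (Nat.sub_le n 1)), Nat.pow_div (Nat.sub_le n 1) (by norm_num)]
        have : n - (n - 1) = 1 := by omega
        rw [this, pow_one]
      exact hna x _ hx hv ((show Commute x u.1 from h8).pow_right _)
    · rintro rfl
      intro g
      exact Subtype.ext (by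
        show g.1 * (1 : H) * g.1⁻¹ = 1
        group)
  have h5 : Nat.card ↑(MulAction.fixedPoints ↥(Subgroup.zpowers x) ↥P) = 1 := by
    rw [h4]
    exact Nat.card_unique
  rw [h5] at h1
  exact (Nat.modEq_iff_dvd' Nat.card_pos).1 h1.symm

/-- **The criterion in a solvable `{2, r}`-group.** -/
theorem false_of_solvable (hr : r.Prime) (hr2 : r ≠ 2) (hsol : Group.IsSolvable H)
    (hpr : ∀ p : ℕ, p.Prime → p ∣ Nat.card H → p = r ∨ p = 2) (hsq : ¬ r ^ 2 ∣ Nat.card H) (h4 : ¬ 4 ∣ r - 1)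
    (hna : NonAdj H r 2) (hk : ∀ j, 0 < j → 2 ^ j ∣ Nat.card H → r ∣ 2 ^ j - 1 → j = k) (hodd : Odd k)
    {x y : H} (hx : orderOf x = r) (hy : orderOf y = 4) : False := by
  have : Fact r.Prime := ⟨hr⟩
  have : Fact (Nat.Prime 2) := ⟨Nat.prime_two⟩
  have hno : ∀ P : Subgroup H, Elem r P → y ∉ Subgroup.normalizer (P : Set H) := fun P hP =>
    DghpArith.no_cyc hr Nat.prime_two hna (cyclic_of_not_sq hr hsq) (b := 2) (by norm_num) (by norm_num; exact h4) P hP
      y (by rw [hy]; norm_num)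
  have hy1 : y ≠ 1 := by
    rintro rfl
    rw [orderOf_one] at hy
    norm_num at hy
  have : Nontrivial H := ⟨y, 1, hy1⟩
  have hcard2 : ∀ P : Subgroup H, P.Normal → IsPGroup 2 ↥P → P ≠ ⊥ → Nat.card ↥P = 2 ^ k := by
    intro P hPn hP hP1
    obtain ⟨j, hj⟩ := IsPGroup.iff_card.1 hP
    have hj0 : 0 < j := by
      rcases Nat.eq_zero_or_pos j with rfl | h0
      · rw [pow_zero] at hj
        exact absurd (Subgroup.eq_bot_of_card_eq P hj) hP1
      · exact h0
    have h1 := dvd_card_sub_one hr hna hP hx (fun u hu => hPn.conj_mem u hu x)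
    rw [hj] at h1 ⊢
    rw [hk j hj0 (hj ▸ Subgroup.card_subgroup_dvd_card P) h1]
  -- a minimal normal subgroup
  obtain ⟨p, hp, P, hPn, hP1, hPab, hPp⟩ := Cfsg.Agent.Solvable.SZ.exists_normal_elemAb H hsol
  have hpH : p ∣ Nat.card H := by
    obtain ⟨u, hu, hu1⟩ : ∃ u ∈ P, u ≠ 1 := by
      by_contra h
      push Not at h
      exact hP1 ((Subgroup.eq_bot_iff_forall P).2 h)
    have : Fact p.Prime := ⟨hp⟩
    have h1 : orderOf u = p := orderOf_eq_prime (hPp u hu) hu1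
    rw [← h1]
    exact orderOf_dvd_natCard u
  rcases hpr p hp hpH with rfl | rfl
  · exact hno P ⟨hP1, hPab, hPp⟩ (by rw [Subgroup.normalizer_eq_top]; exact Subgroup.mem_top y)
  have hPg : IsPGroup 2 ↥P := fun u => ⟨1, by
    rw [pow_one]
    exact Subtype.ext (hPp u.1 u.2)⟩
  have hPc := hcard2 P hPn hPg hP1
  have hyP : y ∉ P := by
    intro h
    have h1 := orderOf_dvd_of_pow_eq_one (hPp y h)
    rw [hy] at h1
    norm_num at h1
  -- the quotient
  have : Nontrivial (H ⧸ P) := ⟨(y : H ⧸ P), 1, fun h => hyP ((QuotientGroup.eq_one_iff y).1 h)⟩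
  have hsq' : Group.IsSolvable (H ⧸ P) := inferInstance
  obtain ⟨q, hq, R, hRn, hR1, hRab, hRp⟩ := Cfsg.Agent.Solvable.SZ.exists_normal_elemAb (H ⧸ P) hsq'
  have hRg : IsPGroup q ↥R := fun u => ⟨1, by
    rw [pow_one]
    exact Subtype.ext (hRp u.1 u.2)⟩
  have : Fact q.Prime := ⟨hq⟩
  obtain ⟨j, hj⟩ := IsPGroup.iff_card.1 hRg
  have hj0 : 0 < j := by
    rcases Nat.eq_zero_or_pos j with rfl | h0
    · rw [pow_zero] at hj
      exact absurd (Subgroup.eq_bot_of_card_eq R hj) hR1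
    · exact h0
  set X := R.comap (QuotientGroup.mk' P) with hX
  have hXn : X.Normal := hRn.comap _
  have hXc : Nat.card ↥X = Nat.card ↥P * Nat.card ↥R := Cfsg.Agent.OddOrderLocal.PiCore.card_comap_mk' P R
  rw [hPc, hj] at hXc
  have hqH : q ∣ Nat.card H := by
    refine dvd_trans ?_ (Subgroup.card_subgroup_dvd_card X)
    rw [hXc]
    exact Dvd.dvd.mul_left (dvd_pow_self q hj0.ne') _
  rcases hpr q hq hqH with rfl | rfl
  · -- `|X| = 2 ^ k r`
    have hj1 : j = 1 := by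
      by_contra hne
      apply hsq
      refine dvd_trans (pow_dvd_pow q (show 2 ≤ j by omega)) (dvd_trans ?_ (Subgroup.card_subgroup_dvd_card X))
      rw [hXc]
      exact Dvd.intro_left _ rfl
    obtain ⟨Q⟩ : Nonempty (Sylow q ↥X) := inferInstance
    have hfr := Sylow.normalizer_sup_eq_top Q
    -- a generator of `Q`
    have hQd : q ∣ Nat.card ↥(Q : Subgroup ↥X) := by
      have h1 := Sylow.dvd_card_of_dvd_card Q (by rw [hXc, hj1, pow_one]; exact Dvd.intro_left _ rfl)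
      exact h1
    obtain ⟨v, hv⟩ := exists_prime_orderOf_dvd_card' q hQd
    have hQc : Nat.card ↥(Q : Subgroup ↥X) = q := by
      obtain ⟨i, hi⟩ := IsPGroup.iff_card.1 Q.isPGroup'
      have hi1 : i = 1 := by
        have h2 : i ≠ 0 := by
          rintro rfl
          rw [pow_zero] at hi
          rw [hi] at hQd
          exact hr.one_lt.ne' (Nat.dvd_one.1 hQd)
        by_contra hne
        apply hsq
        refine dvd_trans (pow_dvd_pow q (show 2 ≤ i by omega)) ?_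
        rw [← hi]
        exact (Subgroup.card_subgroup_dvd_card _).trans (Subgroup.card_subgroup_dvd_card X)
      rw [hi, hi1, pow_one]
    set M := Subgroup.normalizer (((Q : Subgroup ↥X).map X.subtype : Subgroup H) : Set H) with hM
    set x' : H := ((v : ↥X) : H) with hx'
    have hx'o : orderOf x' = q := by rw [hx', Subgroup.orderOf_coe, Subgroup.orderOf_coe, hv]
    have hQz : (Q : Subgroup ↥X).map X.subtype = Subgroup.zpowers x' := by
      symm
      apply Subgroup.eq_of_le_of_card_ge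
      · rw [Subgroup.zpowers_le]
        exact ⟨v, v.2, rfl⟩
      · rw [Nat.card_zpowers, hx'o, Subgroup.card_map_of_injective X.subtype_injective, hQc]
    have hyMX : y ∈ M ⊔ X := by
      rw [hfr]
      exact Subgroup.mem_top y
    obtain ⟨m, hm, n, hn, hmn⟩ := Subgroup.mem_sup_of_normal_right.1 hyMX
    -- `m` has even order
    have hyX : y ∉ X := by
      intro h
      have h1 : (y : H ⧸ P) ∈ R := h
      have h2 := hRp _ h1
      have h3 : (y : H ⧸ P) ^ 4 = 1 := by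
        rw [← QuotientGroup.mk_pow, ← hy, pow_orderOf_eq_one]
        rfl
      have h5 : orderOf (y : H ⧸ P) ∣ Nat.gcd q 4 :=
        Nat.dvd_gcd (orderOf_dvd_of_pow_eq_one h2) (orderOf_dvd_of_pow_eq_one h3)
      have h6 : Nat.gcd q 4 = 1 := by
        have : Nat.Coprime q (2 ^ 2) := Nat.Coprime.pow_right 2 ((Nat.coprime_primes hr Nat.prime_two).2 hr2)
        exact this
      rw [h6, Nat.dvd_one, orderOf_eq_one_iff] at h5
      exact hyP ((QuotientGroup.eq_one_iff y).1 h5)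
    have hmX : (m : H ⧸ X) = (y : H ⧸ X) := by
      rw [← hmn, QuotientGroup.eq]
      simpa using hn
    have hev : 2 ∣ orderOf m := by
      have h1 : orderOf (m : H ⧸ X) ∣ orderOf m := orderOf_map_dvd (QuotientGroup.mk' X) m
      refine dvd_trans ?_ h1
      rw [hmX]
      have h2 : orderOf (y : H ⧸ X) ∣ 2 ^ 2 := by
        have := orderOf_map_dvd (QuotientGroup.mk' X) y
        rw [hy] at this
        exact this
      obtain ⟨i, hi, hi'⟩ := (Nat.dvd_prime_pow Nat.prime_two).1 h2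
      rw [hi']
      rcases Nat.eq_zero_or_pos i with rfl | h0
      · rw [pow_zero, orderOf_eq_one_iff] at hi'
        exact absurd ((QuotientGroup.eq_one_iff y).1 hi') hyX
      · exact dvd_pow_self 2 h0.ne'
    obtain ⟨c, hc⟩ := hev
    have hc0 : c ≠ 0 := by
      rintro rfl
      exact (orderOf_pos m).ne' (by rw [hc, mul_zero])
    set g := m ^ c with hg
    have hgo : orderOf g = 2 := by
      rw [hg, orderOf_pow_of_dvd hc0 (by rw [hc]; exact Dvd.intro_left _ rfl), hc, Nat.mul_div_cancel _ (Nat.pos_of_ne_zero hc0)]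
    have hgM : g ∈ M := pow_mem hm c
    rw [hM, hQz] at hgM
    have hgx : g * x' ≠ x' * g := fun h => hna x' g hx'o hgo h.symm
    obtain ⟨u, hu, hcu⟩ := act_on_prime hr Nat.prime_two hx'o hgo hgM hgx
    have hu1 : u = -1 := by
      have h1 : (u : ZMod q) ^ 2 = 1 := by
        rw [← Units.val_pow_eq_pow_val, ← hu, pow_orderOf_eq_one, Units.val_one]
      rw [pow_two] at h1
      rcases mul_self_eq_one_iff.1 h1 with h2 | h2
      · exfalso
        have h3 : u = 1 := Units.ext h2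
        rw [h3, orderOf_one] at hu
        norm_num at hu
      · exact Units.ext (by rw [h2, Units.val_neg, Units.val_one])
    have hinv : g * x' * g⁻¹ = x'⁻¹ := by
      rw [hcu, hu1]
      apply eq_inv_of_mul_eq_one_left
      rw [← pow_succ, ← orderOf_dvd_iff_pow_eq_one, hx'o, ← ZMod.natCast_eq_zero_iff]
      rw [Nat.cast_add, ZMod.natCast_zmod_val, Units.val_neg, Units.val_one, Nat.cast_one]
      ring
    have hgg : g * g = 1 := by rw [← pow_two, ← hgo, pow_orderOf_eq_one]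
    obtain ⟨c', hc'⟩ := exists_sq hPab (fun u hu => by rw [← pow_two, hPp u hu]) hgg hinv
      (fun u hu => hPn.conj_mem u hu x') (fun u hu => hPn.conj_mem u hu g) (fun u hu hux => by
        by_contra hne
        exact hna x' u hx'o (orderOf_eq_prime (hPp u hu) hne) hux)
    rw [hPc] at hc'
    -- `k` is even
    have h9 : Even k := by
      have h10 : c' ∣ 2 ^ k := by rw [hc']; exact dvd_pow_self c' (by norm_num)
      obtain ⟨i, -, rfl⟩ := (Nat.dvd_prime_pow Nat.prime_two).1 h10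
      rw [← pow_mul] at hc'
      have := Nat.pow_right_injective (le_refl 2) hc'
      rw [this]
      exact ⟨i, by ring⟩
    exact (Nat.not_even_iff_odd.2 hodd) h9
  · -- `X` is a 2-group
    have hXg : IsPGroup 2 ↥X := IsPGroup.of_card (n := k + j) (by rw [hXc, pow_add])
    have hX1 : X ≠ ⊥ := by
      intro h
      apply hP1
      rw [eq_bot_iff, ← h]
      intro u hu
      show (u : H ⧸ P) ∈ R
      rw [(QuotientGroup.eq_one_iff u).2 hu]
      exact one_mem R
    have h1 := hcard2 X hXn hXg hX1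
    rw [hXc, ← pow_add] at h1
    have := Nat.pow_right_injective (le_refl 2) h1
    omega

end main

/-- **The criterion.** `r` odd, `r ∥ |G|`, `4 ∤ r - 1`; no element of order `r` commutes with an involution;
`r ∣ 2 ^ j - 1`, `2 ^ j ∣ |G|`, `j > 0` only for `j = k`; `k` odd. -/
theorem core_odd {G : Type*} [Group G] [Finite G] {r : ℕ} (k : ℕ) (hr : r.Prime) (hr2 : r ≠ 2) (hna : NonAdj G r 2)
    (hrG : r ∣ Nat.card G) (hsq : ¬ r ^ 2 ∣ Nat.card G) (h4 : ¬ 4 ∣ r - 1) (hy : ∃ y : G, orderOf y = 4)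
    (hk : ∀ j, 0 < j → 2 ^ j ∣ Nat.card G → r ∣ 2 ^ j - 1 → j = k) (hodd : Odd k) : Core G := by
  have : Fact r.Prime := ⟨hr⟩
  obtain ⟨x₀, hx₀⟩ := exists_prime_orderOf_dvd_card' r hrG
  obtain ⟨y₀, hy₀⟩ := hy
  refine Core.of_subgroup (r := r) (s := 2) (a := 1) (b := 2) hr Nat.prime_two hr2 one_pos (by norm_num)
    ⟨x₀, by rw [hx₀, pow_one]⟩ ⟨y₀, by rw [hy₀]; norm_num⟩ ?_
  rintro K hK ⟨x, hxK, hx⟩ ⟨y, hyK, hy⟩
  obtain ⟨L, hL, ⟨x', hx'L, hx'⟩, y', hy'L, hy'⟩ := exists_hall_subgroup (K := ↥K) (r := r) (s := 2) (a := 1) (b := 2)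
    hr Nat.prime_two ⟨⟨x, hxK⟩, by rw [Subgroup.orderOf_mk]; exact hx⟩ ⟨⟨y, hyK⟩, by rw [Subgroup.orderOf_mk]; exact hy⟩
  have hcK : Nat.card ↥L ∣ Nat.card G := (Subgroup.card_subgroup_dvd_card L).trans (Subgroup.card_subgroup_dvd_card K)
  refine false_of_solvable (H := ↥L) (k := k) hr hr2 inferInstance hL (fun h => hsq (h.trans hcK)) h4 ?_
    (fun j hj hd => hk j hj (hd.trans hcK)) hodd (x := ⟨x', hx'L⟩) (y := ⟨y', hy'L⟩)
    (by rw [Subgroup.orderOf_mk, hx', pow_one]) (by rw [Subgroup.orderOf_mk, hy']; norm_num)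
  intro u v hu hv huv
  refine hna ((u : ↥K) : G) ((v : ↥K) : G) ?_ ?_ ?_
  · rw [Subgroup.orderOf_coe, Subgroup.orderOf_coe, hu]
  · rw [Subgroup.orderOf_coe, Subgroup.orderOf_coe, hv]
  · exact congrArg (fun w : ↥L => ((w : ↥K) : G)) huv

end Cfsg.Agent.H728.DghpFour
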