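import Cfsg.Agent.H728.DghpFix
import Cfsg.Agent.H728.DghpArith
import Cfsg.Agent.NotCT.Orders
import Cfsg.Agent.Fischer.Fi22Sub3510
import Cfsg.Agent.SporRec.Fi23Index
import Cfsg.Agent.SporRec.Fi24Index
import Cfsg.Agent.R08.TIso

/-!
# `Core` for the Fischer groups (helper728)

`Fi22` : (13, 11); `Fi23` : (17, 11); `Fi24'` : (29, 17): the permutation representations on the transpositions.
-/

set_option autoImplicit false
set_option maxRecDepth 100000

namespace Cfsg.Agent.H728.DghpSpor

open Cfsg Cfsg.Agent.H728.DghpMat Cfsg.Agent.H728.DghpFix Cfsg.Agent.H728.DghpArith Cfsg.Agent.H518.Dghp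

universe u

theorem nonAdj_equiv {X Y : Type*} [Group X] [Group Y] {r s : ℕ} (f : X →* Y) (hf : Function.Injective f)
    (h : NonAdj Y r s) : NonAdj X r s := by
  intro x y hx hy hxy
  refine h (f x) (f y) ?_ ?_ ?_
  · rw [orderOf_injective f hf, hx]
  · rw [orderOf_injective f hf, hy]
  · rw [← map_mul, hxy, map_mul]

/-- both primes divide the order exactly once -/
theorem core_once {G : Type*} [Group G] [Finite G] {r s : ℕ} (hr : r.Prime) (hs : s.Prime) (hrs : r ≠ s)
    (hna : NonAdj G r s) (hrG : r ∣ Nat.card G) (hr2 : ¬ r ^ 2 ∣ Nat.card G) (hsG : s ∣ Nat.card G)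
    (hs2 : ¬ s ^ 2 ∣ Nat.card G) (h1 : ¬ s ∣ r - 1) (h2 : ¬ r ∣ s - 1) : Core G := by
  refine core_primes hr hs hrs hna hrG hr2 hsG h1 ?_
  intro k hk hkd
  have hk1 : k = 1 := by
    by_contra hne
    exact hs2 ((pow_dvd_pow s (by omega)).trans hkd)
  rw [hk1, pow_one]
  exact h2

theorem card_of_index {G : Type*} [Group G] {H : Subgroup G} {i n c : ℕ} (hi : H.index = i) (hn : Nat.card G = n)
    (hc : i * c = n) (hi0 : 0 < i) : Nat.card H = c := by
  have h1 := Subgroup.card_mul_index H
  rw [hi, hn, ← hc, mul_comm] at h1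
  exact Nat.eq_of_mul_eq_mul_left hi0 h1

/-! ### `Fi22` -/

theorem fi22 : Core Spor.Fi22 := by
  have hcard : Nat.card Spor.Fi22 = 64561751654400 := NotCT.Orders.fi22 ⟨MulEquiv.refl _⟩
  have : Finite Spor.Fi22 := Nat.finite_of_card_ne_zero (by rw [hcard]; norm_num)
  have hi := Fischer.Fi22Sub3510.main.1
  have hna : NonAdj Spor.Fi22 13 11 := by
    refine nonAdj_of_rank (H := Fischer.Fi22Sub3510.H) (a := 693) (b := 2816) (by norm_num) (by rw [hcard]; norm_num)
      (by rw [hi]) Fischer.Fi22Sub3510.ncard1 Fischer.Fi22Sub3510.ncard2 (by norm_num) (by norm_num) (by norm_num)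
      (by norm_num) (by norm_num) ?_
    rw [card_of_index hi hcard (c := 18393661440) (by norm_num) (by norm_num)]
    norm_num
  exact core_once (by norm_num) (by norm_num) (by norm_num) hna (by rw [hcard]; norm_num) (by rw [hcard]; norm_num)
    (by rw [hcard]; norm_num) (by rw [hcard]; norm_num) (by norm_num) (by norm_num)

theorem core_fi22 {G : Type u} [Group G] (h : Spor.IsoFi22 G) : Core G :=
  h.elim fun e => fi22.congr e.symm

/-! ### `Fi23` -/

theorem fi23_arith : ∀ k < 207, (17 * k) % 11 = 2 → ¬ (17 * k - 1) ∣ 129123503308800 := by decide +kernel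

theorem nonAdj_fi23 [Finite Spor.Fi23] (hcard : Nat.card Spor.Fi23 = 4089470473293004800) :
    NonAdj Spor.Fi23 17 11 := by
  intro y x hy hx hyx
  have hi := SporRec.Fi23Index.index_H
  set H := SporRec.Fi23Index.H with hH
  have hcH : Nat.card H = 129123503308800 := card_of_index hi hcard (by norm_num) (by norm_num)
  obtain ⟨q₁, q₂, h1, h2⟩ := SporRec.Fi23Index.orbits
  have hcov := cover (H := H) (a := 3510) (b := 28160) hi h1 h2 (by norm_num) (by norm_num) (by norm_num)
  have hsq : ¬ 11 ^ 2 ∣ Nat.card Spor.Fi23 := by rw [hcard]; norm_num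
  obtain ⟨g, hg⟩ := exists_conj (H := H) (s := 11) (by norm_num) (by rw [hi]; norm_num) hx
  set x' := g⁻¹ * x * g with hx'
  set y' := g⁻¹ * y * g with hy'
  have hxy : x' * y' = y' * x' := by
    rw [hx', hy']
    calc g⁻¹ * x * g * (g⁻¹ * y * g) = g⁻¹ * (x * y) * g := by group
      _ = g⁻¹ * (y * x) * g := by rw [hyx]
      _ = _ := by group
  have hx'o : orderOf x' = 11 := (orderOf_conj g x).trans hx
  have hy'o : orderOf y' = 17 := (orderOf_conj g y).trans hy
  -- the fixed points
  set F : Set (Spor.Fi23 ⧸ H) := {p | x' • p = p} with hF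
  have hbase : ((1 : Spor.Fi23) : Spor.Fi23 ⧸ H) ∈ F := (smul_one_eq x').2 hg
  -- no fixed point of `y'`
  have hyfix : ∀ p : Spor.Fi23 ⧸ H, y' • p ≠ p := by
    intro p hp
    induction p using QuotientGroup.induction_on with
    | H k =>
      have h3 : y' • ((k : Spor.Fi23) : Spor.Fi23 ⧸ H) = ((k : Spor.Fi23) : Spor.Fi23 ⧸ H) := hp
      rw [smul_mk, eq_comm, QuotientGroup.eq, ← mul_assoc] at h3
      have h4 := dvd_card_of_mem (r := 17) ((orderOf_conj k y').trans hy'o) h3
      rw [hcH] at h4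
      revert h4
      norm_num
  -- `17 ∣ |F|`
  have h17 : 17 ∣ F.ncard := by
    have : Fact (Nat.Prime 17) := ⟨by norm_num⟩
    have hpg : IsPGroup 17 ↥(Subgroup.zpowers y') := IsPGroup.of_card (n := 1) (by
      rw [Nat.card_zpowers, hy'o, pow_one])
    have hinv : ∀ g ∈ Subgroup.zpowers y', ∀ p ∈ F, g • p ∈ F := by
      rintro _ ⟨n, rfl⟩ p hp
      show x' • (y' ^ n) • p = (y' ^ n) • p
      have hc : Commute x' (y' ^ n) := (show Commute x' y' from hxy).zpow_right n
      rw [← mul_smul, hc.eq, mul_smul]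
      congr 1
    let act : MulAction ↥(Subgroup.zpowers y') ↥F :=
      { smul := fun g p => ⟨(g : Spor.Fi23) • p.1, hinv g.1 g.2 p.1 p.2⟩
        one_smul := fun p => Subtype.ext (one_smul _ p.1)
        mul_smul := fun g g' p => Subtype.ext (mul_smul (g : Spor.Fi23) (g' : Spor.Fi23) p.1) }
    have h3 := hpg.card_modEq_card_fixedPoints ↥F
    have h4 : Nat.card ↑(MulAction.fixedPoints ↥(Subgroup.zpowers y') ↥F) = 0 := by
      rw [Nat.card_eq_zero]
      left
      refine ⟨fun p => ?_⟩
      have h5 := p.2 ⟨y', Subgroup.mem_zpowers y'⟩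
      exact hyfix _ (congrArg Subtype.val h5)
    rw [h4] at h3
    rw [← Nat.card_coe_set_eq]
    exact (Nat.modEq_zero_iff_dvd).1 h3
  -- `|F| ≡ 2 (mod 11)`
  have h11 : F.ncard % 11 = 2 := by
    have : Fact (Nat.Prime 11) := ⟨by norm_num⟩
    have hpg : IsPGroup 11 ↥(Subgroup.zpowers x') := IsPGroup.of_card (n := 1) (by
      rw [Nat.card_zpowers, hx'o, pow_one])
    have h3 := hpg.card_modEq_card_fixedPoints (Spor.Fi23 ⧸ H)
    have h4 : Nat.card ↑(MulAction.fixedPoints ↥(Subgroup.zpowers x') (Spor.Fi23 ⧸ H)) = F.ncard := by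
      rw [Nat.card_coe_set_eq]
      congr 1
      ext p
      constructor
      · intro hp
        exact hp ⟨x', Subgroup.mem_zpowers x'⟩
      · intro hp
        rintro ⟨g, hg⟩
        have h5 : Subgroup.zpowers x' ≤ MulAction.stabilizer Spor.Fi23 p := by
          rw [Subgroup.zpowers_le]
          exact hp
        exact h5 hg
    have h5 : Nat.card (Spor.Fi23 ⧸ H) = 31671 := hi
    rw [h4, h5] at h3
    exact h3.symm
  -- `F` without the base point
  have hsub : F = insert ((1 : Spor.Fi23) : Spor.Fi23 ⧸ H) {p | p ∈ MulAction.orbit H q₁ ∧ x' • p = p} := by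
    ext p
    constructor
    · intro hp
      rcases hcov p with h | h | h
      · exact Or.inl h
      · exact Or.inr ⟨h, hp⟩
      · exfalso
        refine false_of_fix hsq hx'o hg (q := p) hp ?_
        rw [MulAction.orbit_eq_iff.2 h, h2]
        norm_num
    · rintro (rfl | ⟨-, hp⟩)
      · exact hbase
      · exact hp
  have hn1 : ((1 : Spor.Fi23) : Spor.Fi23 ⧸ H) ∉ {p | p ∈ MulAction.orbit H q₁ ∧ x' • p = p} := by
    rintro ⟨h, -⟩
    have hone : MulAction.orbit H ((1 : Spor.Fi23) : Spor.Fi23 ⧸ H) = {((1 : Spor.Fi23) : Spor.Fi23 ⧸ H)} := by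
      ext y
      rw [Set.mem_singleton_iff]
      constructor
      · rintro ⟨⟨g, hg⟩, hy⟩
        rw [← hy]
        exact (smul_one_eq g).2 hg
      · rintro rfl
        exact MulAction.mem_orbit_self _
    rw [← MulAction.orbit_eq_iff.2 h, hone, Set.ncard_singleton] at h1
    norm_num at h1
  have hFc : F.ncard = {p | p ∈ MulAction.orbit H q₁ ∧ x' • p = p}.ncard + 1 := by
    rw [hsub, Set.ncard_insert_of_notMem hn1 (Set.toFinite _)]
  set m := {p | p ∈ MulAction.orbit H q₁ ∧ x' • p = p}.ncard with hm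
  have hm0 : m ≠ 0 := by
    intro h0
    rw [h0] at hFc
    rw [hFc] at h11
    norm_num at h11
  obtain ⟨q, hq, hqx⟩ : {p | p ∈ MulAction.orbit H q₁ ∧ x' • p = p}.Nonempty := by
    rw [Set.nonempty_iff_ne_empty]
    intro h
    rw [hm, h, Set.ncard_empty] at hm0
    exact hm0 rfl
  have hdvd : m ∣ Nat.card H := by
    have h3 := ncard_fix_dvd (H := H) (s := 11) (by norm_num) hsq hx'o hg (q := q) hqx
    rwa [MulAction.orbit_eq_iff.2 hq] at h3
  rw [hcH] at hdvd
  have hmle : m ≤ 3510 := by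
    rw [← h1]
    exact Set.ncard_le_ncard (fun p hp => hp.1) (Set.toFinite _)
  obtain ⟨k, hk⟩ := h17
  rw [hk] at hFc h11
  have hmk : m = 17 * k - 1 := by omega
  exact fi23_arith k (by omega) h11 (hmk ▸ hdvd)

theorem fi23 : Core Spor.Fi23 := by
  have hcard : Nat.card Spor.Fi23 = 4089470473293004800 := NotCT.Orders.fi23 ⟨MulEquiv.refl _⟩
  have : Finite Spor.Fi23 := Nat.finite_of_card_ne_zero (by rw [hcard]; norm_num)
  exact core_once (by norm_num) (by norm_num) (by norm_num) (nonAdj_fi23 hcard) (by rw [hcard]; norm_num)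
    (by rw [hcard]; norm_num) (by rw [hcard]; norm_num) (by rw [hcard]; norm_num) (by norm_num) (by norm_num)

theorem core_fi23 {G : Type u} [Group G] (h : Spor.IsoFi23 G) : Core G :=
  h.elim fun e => fi23.congr e.symm

/-! ### `Fi24'` -/

theorem nonAdj_fi24 : NonAdj Spor.Fi24 29 17 := by
  have hcard : Nat.card Spor.Fi24 = 2510411418381323442585600 := R08.TIso.card_Fi24
  have : Finite Spor.Fi24 := Nat.finite_of_card_ne_zero (by rw [hcard]; norm_num)
  obtain ⟨hi, -, q₁, q₂, h1, h2⟩ := SporRec.Fi24Index.index_and_suborbits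
  refine nonAdj_of_rank (a := 31671) (b := 275264) (by norm_num) (by rw [hcard]; norm_num)
    (by rw [hi]) h1 h2 (by norm_num) (by norm_num) (by norm_num) (by norm_num) (by norm_num) ?_
  rw [card_of_index hi hcard (c := 8178940946586009600) (by norm_num) (by norm_num)]
  norm_num

theorem fi24 : Core Spor.Fi24' := by
  have hcard : Nat.card Spor.Fi24' = 1255205709190661721292800 := NotCT.Orders.fi24 ⟨MulEquiv.refl _⟩
  have : Finite Spor.Fi24' := Nat.finite_of_card_ne_zero (by rw [hcard]; norm_num)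
  exact core_once (by norm_num) (by norm_num) (by norm_num)
    (nonAdj_equiv (Subgroup.subtype _) (Subgroup.subtype_injective _) nonAdj_fi24) (by rw [hcard]; norm_num)
    (by rw [hcard]; norm_num) (by rw [hcard]; norm_num) (by rw [hcard]; norm_num) (by norm_num) (by norm_num)

theorem core_fi24 {G : Type u} [Group G] (h : Spor.IsoFi24' G) : Core G :=
  h.elim fun e => fi24.congr e.symm

end Cfsg.Agent.H728.DghpSpor
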