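import Cfsg.Agent.H518.DghpAlt
import Cfsg.Agent.H518.DghpOEight
import Cfsg.Agent.H728.DghpExc
import Cfsg.Agent.H728.DghpSpor
import Cfsg.Agent.H478.SporTwo
import Cfsg.Agent.H478.SporConway
import Cfsg.Agent.H478.SporOdd
import Cfsg.Agent.H478.SporBaby
import Cfsg.Agent.H478.SporJ2
import Cfsg.Agent.H478.SporHe
import Cfsg.Agent.H478.SporSuz
import Cfsg.Agent.H478.SporJ4
import Cfsg.Agent.H478.SporRu

/-!
# `Core` for all known finite nonabelian simple groups (helper728)

There are distinct primes `r`, `s` and `a, b > 0` such that `r ^ a`, `s ^ b` are element orders and two elements of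
orders `r ^ a` and `s ^ b` always generate a non-solvable subgroup (Dolfi, Guralnick, Herzog, Praeger).
-/

set_option autoImplicit false

namespace Cfsg.Agent.H728.DghpKnown

open Cfsg Cfsg.Agent.H518.Dghp Cfsg.Agent.H518.DghpMat Cfsg.Agent.H478

universe u

/-- the sporadic groups -/
theorem core_sporadic {G : Type u} [Group G] [Finite G] [IsSimpleGroup G] (hG : ¬ IsMulCommutative G)
    (h : IsSporadicGroup G) : Core G := by
  rcases h with h | h | h | h | h | h | h | h | h | h | h | h | h | h | h | h | h | h | h | h | h | h | h | h | h | h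
  · exact SporTwo.m11 hG h
  · exact SporTwo.m12 hG h
  · exact SporTwo.m22 hG h
  · exact SporTwo.m23 hG h
  · exact SporTwo.m24 hG h
  · exact SporOdd.j1 h
  · exact SporJ2.j2 h
  · exact SporTwo.j3 hG h
  · exact SporJ4.j4 h
  · exact SporConway.co1 h
  · exact SporConway.co2 h
  · exact SporTwo.co3 hG h
  · exact SporTwo.mcl hG h
  · exact SporTwo.hs hG h
  · exact SporSuz.suz h
  · exact SporHe.he h
  · exact SporRu.ru h
  · exact SporTwo.on hG h
  · exact SporTwo.ly hG h
  · exact DghpSpor.core_fi22 h
  · exact DghpSpor.core_fi23 h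
  · exact DghpSpor.core_fi24 h
  · exact SporTwo.hn hG h
  · exact SporTwo.th hG h
  · exact SporBaby.b h
  · exact SporTwo.m hG h

/-- the known simple groups -/
theorem core_of_known {G : Type u} [Group G] [Finite G] [IsSimpleGroup G] (hG : ¬ IsMulCommutative G)
    (h : IsKnownSimple' G) : Core G := by
  rcases h with h | h | h | h | h | h | h | h | h | h
  · exfalso
    have hp : (Nat.card G).Prime := h
    have : Fact (Nat.card G).Prime := ⟨hp⟩
    have hc : IsCyclic G := isCyclic_of_prime_card rfl
    exact hG (IsCyclic.isMulCommutative)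
  · exact core_isAlternating h
  · exact core_isPSL h
  · exact core_isPSp h
  · exact core_isPSU h
  · exact core_isPOmegaOdd h
  · exact core_isPOmegaPlus h
  · exact core_isPOmegaMinus h
  · exact DghpExc.core_exceptional (fun h => SporOdd.tits h) h
  · exact core_sporadic hG h

end Cfsg.Agent.H728.DghpKnown
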