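import Cfsg.Agent.H378.Regular
import Cfsg.Agent.H944.TorAnyChev
import Cfsg.Agent.H728.DghpNum
import Cfsg.Agent.H728.DghpMat

/-!
# Non-adjacency from totients (helper728)

`D.group F`, `|F| = q`, rank `l`, `r`, `s` primitive prime divisors of `q ^ e - 1`, `q ^ f - 1`, `e ≠ f`, `r, s ∤ |W|`,
`φ(e) + φ(f) > l`: no element of order `r` commutes with one of order `s`.
-/

set_option autoImplicit false
set_option linter.unusedSectionVars false

namespace Cfsg.Agent.H728.DghpNA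

open CoxeterSystem Subgroup Cfsg Cfsg.Lie Cfsg.Lie.ChevalleyDatum
open Cfsg.Agent.ChevalleyStructure Cfsg.Agent.ChevalleyStructure.Elts Cfsg.Agent.ChevalleyStructure.CoxeterGeom
  Cfsg.Agent.ChevalleyStructure.CoxeterGeomTypes Cfsg.Agent.ChevalleyStructure.NPerm
open Cfsg.Agent.Tits.Roots Cfsg.Agent.Tits.Core Cfsg.Agent.Nodes.Reps Cfsg.Agent.Nodes.BNOf
  Cfsg.Agent.Nodes.RGDChev Cfsg.Agent.Nodes.Bruhat
open Cfsg.Agent.KFacts.RgdField Cfsg.Agent.KFacts.RgdChevCoord Cfsg.Agent.BpExc.TorCent Cfsg.Agent.BpExc.TorChev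
open Cfsg.Agent.BpExc.Tow Cfsg.Agent.BpExc.TowChev Cfsg.Agent.BpExc.FamExt Cfsg.Agent.BpExc.FamUntw
  Cfsg.Agent.BpExc.FamInst Cfsg.Agent.BpExc.LangFr Cfsg.Agent.BpExc.FamField
open Cfsg.Agent.GpExc.Field (glMap emb coe_emb glMap_xG emb_injective coe_glMap)
open Cfsg.Agent.H378.TorDual Cfsg.Agent.H378.TorChar Cfsg.Agent.H378.TorFin Cfsg.Agent.H378.LatRoot
  Cfsg.Agent.H378.Regular Cfsg.Agent.H378.LatCyc
open Cfsg.Agent.H728.DghpNum Cfsg.Agent.H728.DghpMat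

universe u v

section Lat

open Polynomial

variable {l : ℕ} {k : Type u} [Field k]

/-- **A vector killed by `Φ_m(w)`** from an eigencharacter of order `ℓ ∣ Φ_m(q)`. -/
theorem exists_vec {m N : ℕ} (hm : 0 < m) {w : Module.End ℤ (Fin l → ℤ)}
    (hN : 0 < N) (hw : w ^ N = 1) {ℓ : ℕ} (hℓ : ℓ.Prime) (hℓN : ¬ ℓ ∣ N) (hℓm : ¬ ℓ ∣ m) {q : ℤ}
    (hq : (ℓ : ℤ) ∣ (cyclotomic m ℤ).eval q) {χ : Ch l k}
    (hχ : χ ∈ KerOf k (w - q • (1 : Module.End ℤ (Fin l → ℤ)))) (hχ1 : χ ≠ 1) (hχℓ : χ ^ ℓ = 1) :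
    ∃ v : Fin l → ℤ, v ≠ 0 ∧ aeval w (cyclotomic m ℤ) v = 0 := by
  obtain ⟨R, hR⟩ := cyclotomic.dvd_X_pow_sub_one m ℤ
  obtain ⟨S, hS⟩ : (X ^ m - 1 : ℤ[X]) ∣ X ^ (N * m) - 1 := by
    have := sub_dvd_pow_sub_pow (X ^ m : ℤ[X]) 1 N
    rwa [one_pow, ← pow_mul, mul_comm m N] at this
  obtain ⟨Q, hQ⟩ : ∃ Q : ℤ[X], X ^ (N * m) - 1 = cyclotomic m ℤ * Q := ⟨R * S, by rw [hS, hR, mul_assoc]⟩
  have hNm : ¬ ℓ ∣ N * m := fun h => (hℓ.dvd_mul.1 h).elim hℓN hℓm
  have hzero : ∀ x, aeval w (cyclotomic m ℤ) (aeval w Q x) = 0 := by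
    intro x
    rw [← Module.End.mul_apply, ← map_mul, ← hQ, map_sub, map_pow, aeval_X, map_one, pow_mul, hw, one_pow, sub_self,
      LinearMap.zero_apply]
  by_cases hcase : ∀ x, aeval w Q x = 0
  · exfalso
    obtain ⟨x, hx⟩ : ∃ x : Fin l → ℤ, χ (Multiplicative.ofAdd x) ≠ 1 := by
      by_contra hcon
      push Not at hcon
      exact hχ1 (MonoidHom.ext fun x => hcon (Multiplicative.toAdd x))
    have hord : orderOf (χ (Multiplicative.ofAdd x)) = ℓ := by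
      have h1 : χ (Multiplicative.ofAdd x) ^ ℓ = 1 := by
        rw [← MonoidHom.pow_apply, hχℓ, MonoidHom.one_apply]
      exact ((Nat.dvd_prime hℓ).1 (orderOf_dvd_of_pow_eq_one h1)).resolve_left fun h2 => hx (orderOf_eq_one_iff.1 h2)
    have hdvd : ∀ P : ℤ[X], aeval w P x = 0 → (ℓ : ℤ) ∣ P.eval q := by
      intro P hP
      have h1 := kerOf_aeval hχ P x
      rw [hP, ofAdd_zero, map_one] at h1
      rw [← hord]
      exact orderOf_dvd_iff_zpow_eq_one.2 h1.symm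
    have hQq := hdvd Q (hcase x)
    have hd := congrArg (fun P : ℤ[X] => (derivative P).eval q) hQ
    simp only [derivative_sub, derivative_X_pow, derivative_one, sub_zero, derivative_mul, eval_add, eval_mul,
      eval_pow, eval_X, eval_C] at hd
    have h1 : (ℓ : ℤ) ∣ ((N * m : ℕ) : ℤ) * q ^ (N * m - 1) := by
      have h3 : ((N * m : ℕ) : ℤ) * q ^ (N * m - 1) = eval q (derivative (cyclotomic m ℤ)) * eval q Q +
          eval q (cyclotomic m ℤ) * eval q (derivative Q) := hd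
      rw [h3]
      exact dvd_add (Dvd.dvd.mul_left hQq _) (Dvd.dvd.mul_right hq _)
    have hℓ' : Prime (ℓ : ℤ) := Nat.prime_iff_prime_int.1 hℓ
    rcases hℓ'.dvd_mul.1 h1 with h2 | h2
    · exact hNm (by exact_mod_cast h2)
    · have h3 : (ℓ : ℤ) ∣ q := hℓ'.dvd_of_dvd_pow h2
      have h4 : (X ^ (N * m) - 1 : ℤ[X]).eval q = q ^ (N * m) - 1 := by simp
      have h5 : (ℓ : ℤ) ∣ q ^ (N * m) - 1 := by
        rw [← h4, hQ, eval_mul]
        exact Dvd.dvd.mul_right hq _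
      have h6 : (ℓ : ℤ) ∣ q ^ (N * m) := dvd_pow h3 (Nat.mul_pos hN hm).ne'
      have h7 : (ℓ : ℤ) ∣ 1 := by
        have := dvd_sub h6 h5
        rwa [sub_sub_cancel] at this
      exact hℓ'.not_isUnit (isUnit_of_dvd_one h7)
  · push Not at hcase
    obtain ⟨x, hx⟩ := hcase
    exact ⟨_, hx, hzero x⟩

theorem dvd_minpoly {m : ℕ} (hm : 0 < m) {w : Module.End ℤ (Fin l → ℤ)} {v : Fin l → ℤ} (hv : v ≠ 0)
    (h : aeval w (cyclotomic m ℤ) v = 0) : cyclotomic m ℚ ∣ minpoly ℚ (toQ w) := by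
  have hv' : vq v ≠ 0 := fun h0 => hv (vq_eq_zero.1 h0)
  have h' : aeval (toQ w) (cyclotomic m ℚ) (vq v) = 0 := by
    rw [← map_cyclotomic_int m ℚ, ← toQ_aeval, toQ_vq, h]
    exact vq_eq_zero.2 rfl
  rcases (cyclotomic.irreducible_rat hm).isCoprime_or_dvd (minpoly ℚ (toQ w)) with h1 | h1
  · exfalso
    obtain ⟨a, b, hab⟩ := h1
    apply hv'
    have h2 : aeval (toQ w) (a * cyclotomic m ℚ + b * minpoly ℚ (toQ w)) (vq v) = vq v := by
      rw [hab, map_one, Module.End.one_apply]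
    rw [← h2, map_add, map_mul, map_mul, LinearMap.add_apply, Module.End.mul_apply, Module.End.mul_apply, h',
      minpoly.aeval, LinearMap.zero_apply, map_zero, map_zero, add_zero]
  · exact h1

/-- **The dimension count.** -/
theorem totient_add_le {m₁ m₂ : ℕ} (hm₁ : 0 < m₁) (hm₂ : 0 < m₂) (hne : m₁ ≠ m₂) {w : Module.End ℤ (Fin l → ℤ)}
    {v₁ v₂ : Fin l → ℤ} (hv₁ : v₁ ≠ 0) (e₁ : aeval w (cyclotomic m₁ ℤ) v₁ = 0) (hv₂ : v₂ ≠ 0)
    (e₂ : aeval w (cyclotomic m₂ ℤ) v₂ = 0) : m₁.totient + m₂.totient ≤ l := by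
  have h1 := dvd_minpoly hm₁ hv₁ e₁
  have h2 := dvd_minpoly hm₂ hv₂ e₂
  have h3 : cyclotomic m₁ ℚ * cyclotomic m₂ ℚ ∣ (toQ w).charpoly :=
    ((cyclotomic.isCoprime_rat hne).mul_dvd h1 h2).trans (LinearMap.minpoly_dvd_charpoly (toQ w))
  have h4 := natDegree_le_of_dvd h3 (LinearMap.charpoly_monic (toQ w)).ne_zero
  rw [natDegree_mul (cyclotomic_ne_zero _ _) (cyclotomic_ne_zero _ _), natDegree_cyclotomic, natDegree_cyclotomic,
    LinearMap.charpoly_natDegree] at h4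
  simpa using h4

end Lat

variable {D : ChevalleyDatum} {l : ℕ} {M : CoxeterMatrix (Fin l)} (hp : IsType D l M)
  {W : Type*} [Group W] (cs : CoxeterSystem M W)

include hp cs in
/-- **Non-adjacency from totients.** -/
theorem nonAdj_totient [Finite W] {F : Type u} [Field F] [Finite F] {q : ℕ} (hq : Nat.card F = q) {e f r s : ℕ}
    (hr : Ppd q e r) (hs : Ppd q f s) (hef : e ≠ f) (hrW : ¬ r ∣ Nat.card W) (hsW : ¬ s ∣ Nat.card W)
    (hl : l < e.totient + f.totient) : NonAdj ↥(D.group F) r s := by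
  intro x y hx hy hxy
  obtain ⟨k, _, _, ι, p, hpF, _, n, hk, hka, hn0, hn⟩ := exists_closure F
  have hrs : r ≠ s := by
    rintro rfl
    exact hef (hr.ord.symm.trans hs.ord)
  have hcop : Nat.Coprime r s := (Nat.coprime_primes hr.prime hs.prime).2 hrs
  have hu : orderOf (x * y) = r * s := by
    have h1 : Commute x y := hxy
    rw [h1.orderOf_mul_eq_mul_orderOf_of_coprime (by rw [hx, hy]; exact hcop), hx, hy]
  have hemb := emb_injective hp.inList ι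
  have hqn : q = p ^ n := by rw [← hq, hn]
  have hnp : ∀ {t : ℕ}, t.Prime → ¬ t ∣ q → t ≠ p := by
    rintro t ht h1 rfl
    apply h1
    rw [hqn]
    exact dvd_pow_self _ hn0.ne'
  have hcp : (r * s).Coprime p := Nat.Coprime.mul_left
    ((Nat.coprime_primes hr.prime hpF.out).2 (hnp hr.prime hr.ndvd))
    ((Nat.coprime_primes hs.prime hpF.out).2 (hnp hs.prime hs.ndvd))
  set u := emb hp.inList ι (x * y) with hudef
  have huo : orderOf u = r * s := by rw [hudef, orderOf_injective _ hemb, hu]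
  have hσ : phi D k p n u = u := phi_emb' hp ι p hn (x * y)
  obtain ⟨z, hz⟩ := Cfsg.Agent.H944.TorAnyChev.exists_conj_mem_TT hp p hka (x := u)
    (mul_ne_zero hr.prime.ne_zero hs.prime.ne_zero) hcp (by rw [← huo]; exact pow_orderOf_eq_one u)
  set t := z * u * z⁻¹ with ht
  have hto : orderOf t = r * s := by
    have h3 : t = MulAut.conj z u := rfl
    rw [h3, ← huo]
    exact orderOf_injective (MulAut.conj z).toMonoidHom (MulAut.conj z).injective u
  have h1 : phi D k p n t = phi D k p n z * u * (phi D k p n z)⁻¹ := by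
    rw [ht, map_mul, map_mul, map_inv, hσ]
  have e1 : z * (phi D k p n z)⁻¹ * phi D k p n t = t * (z * (phi D k p n z)⁻¹) := by
    rw [h1, ht]; group
  obtain ⟨m, hm, w, g, hg, hgs, hc⟩ := exists_form' hp cs hk p (phi_mem hp p hz) hz e1
  have hgt : g * phi D k p n t * g⁻¹ = t := by rw [hgs]; group
  have hχK : tchar hp ⟨t, hz⟩ ∈
      KerOf k (rep cs hp.isCartan w - ((p ^ n : ℕ) : ℤ) • (1 : Module.End ℤ (Fin l → ℤ))) :=
    (mem_TwT_iff hp cs p hk hg hz).1 ⟨hz, hgt⟩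
  have hχn : tchar hp ⟨t, hz⟩ ^ (r * s) = 1 :=
    tchar_pow_eq_one hp hz (by rw [← hto]; exact pow_orderOf_eq_one t)
  have hpow : ∀ j : ℕ, tchar hp ⟨t, hz⟩ ^ j = 1 → t ^ j = 1 := by
    intro j hj
    have h2 : tchar hp ((⟨t, hz⟩ : ↥(TT D k)) ^ j) = 1 := (map_pow (tchar hp) _ j).trans hj
    have h3 := tchar_injective hp (h2.trans (map_one (tchar hp)).symm)
    exact congrArg Subtype.val h3
  have hwN : rep cs hp.isCartan w ^ Nat.card W = 1 := by
    rw [← map_pow, pow_card_eq_one', map_one]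
  rw [← hqn] at hχK
  have hrs0 : 0 < r * s := Nat.mul_pos hr.prime.pos hs.prime.pos
  obtain ⟨v₁, hv₁, e₁⟩ := exists_vec (χ := tchar hp ⟨t, hz⟩ ^ s) hr.pos Nat.card_pos hwN hr.prime hrW hr.not_dvd
    hr.cyc_dvd (pow_mem hχK s) (fun h2 => by
      have h3 := orderOf_dvd_of_pow_eq_one (hpow s h2)
      rw [hto] at h3
      have h4 := Nat.le_of_dvd hs.prime.pos h3
      have := hr.prime.two_le
      nlinarith [hs.prime.pos]) ((pow_mul (tchar hp ⟨t, hz⟩) s r).symm.trans (by rw [mul_comm]; exact hχn))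
  obtain ⟨v₂, hv₂, e₂⟩ := exists_vec (χ := tchar hp ⟨t, hz⟩ ^ r) hs.pos Nat.card_pos hwN hs.prime hsW hs.not_dvd
    hs.cyc_dvd (pow_mem hχK r) (fun h2 => by
      have h3 := orderOf_dvd_of_pow_eq_one (hpow r h2)
      rw [hto] at h3
      have h4 := Nat.le_of_dvd hr.prime.pos h3
      have := hs.prime.two_le
      nlinarith [hr.prime.pos]) ((pow_mul (tchar hp ⟨t, hz⟩) r s).symm.trans hχn)
  have := totient_add_le hr.pos hs.pos hef hv₁ e₁ hv₂ e₂
  omega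

end Cfsg.Agent.H728.DghpNA
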