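import Cfsg.Agent.H730.PairRow
import Cfsg.Agent.H419.Spor.Fi
import Cfsg.Agent.H187.FiOdd.Cent
import Cfsg.Agent.H163.PG.Fi24
import Cfsg.Agent.H30.IMFi24

/-!
# The pair row of `Fi24'` for S4938 (helper728)

* `eleven` : an element of order 11 of `Fi24` commutes with no element of prime order `s ≥ 5`, `s ≠ 11`;
* `pairRow` : the row.
-/

set_option autoImplicit false
set_option linter.constructorNameAsVariable false
set_option maxRecDepth 10000

namespace Cfsg.Agent.H728.PairFi24

open Cfsg Cfsg.Spor Cfsg.Agent.Fischer Cfsg.Agent.Fischer.Abstract Cfsg.Agent.R08.FiTwentyFour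
open Cfsg.Agent.Fischer.Fi24Class (gen gen_sq comm_l)
open Cfsg.Agent.Fischer.Fi24Final (sgn sgn_gen)
open Cfsg.Agent.LThreeFi22 (fix_modEq ncard_conj conj_comm_iff)
open Cfsg.Agent.H163.PG Cfsg.Agent.H163.PG.FiTF
open Subgroup

theorem eleven {x y : Fi24} (hx : orderOf x = 11) {s : ℕ} (hs : s.Prime) (h3 : 5 ≤ s)
    (hs' : ¬ s ∣ 22) (hy : orderOf y = s) (hxy : x * y = y * x) : False := by
  have hodd : Odd s := hs.odd_of_ne_two (by omega)
  have hmod := fx_modEq (r := 11) (by norm_num) (x := x) (by rw [← hx, pow_orderOf_eq_one])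
  have hne : (Fx x).Nonempty := by
    rw [← Set.ncard_pos (finite_set _)]
    unfold Nat.ModEq at hmod
    omega
  obtain ⟨d, hd⟩ := hne
  obtain ⟨g, hg⟩ := conj_l hd
  have hx' : orderOf (g * x * g⁻¹) = 11 := by rw [← hx]; exact (MulAut.conj g).orderOf_eq x
  have hy' : orderOf (g * y * g⁻¹) = s := by rw [← hy]; exact (MulAut.conj g).orderOf_eq y
  have hxy' := comm_conj (g := g) hxy
  set x' := g * x * g⁻¹
  set y' := g * y * g⁻¹
  obtain ⟨k, hk, hk11⟩ := exists_phi (by decide) hx' hg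
  have hsub : Fx x' ⊆ insert (gen .l) ((fun d => gen .l * facts.phi d) '' FiTT.Fx k) := by
    intro e he
    rcases fx_eq (p := 11) (by norm_num) (by norm_num) (by decide) hx' hg hk he with h | ⟨d, hd, h⟩
    · exact Or.inl h
    · exact Or.inr ⟨d, hd, h.symm⟩
  have hle : (Fx x').ncard ≤ 3 := by
    refine (Set.ncard_le_ncard hsub (finite_set _)).trans ((Set.ncard_insert_le _ _).trans ?_)
    have h1 := Set.ncard_image_le (f := fun d => gen .l * facts.phi d) (FiTT.finite_set (FiTT.Fx k))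
    have h2 := FiTT.fx_le hk11
    omega
  have hmod' := fx_modEq' hs (x := x') (y := y') (by rw [← hy', pow_orderOf_eq_one]) hxy'
  have hsub' : {d | d ∈ Fx x' ∧ y' * d = d * y'} ⊆ Fx x' := fun d hd => hd.1
  have hle' := Set.ncard_le_ncard hsub' (finite_set _)
  have heq : {d | d ∈ Fx x' ∧ y' * d = d * y'} = Fx x' := by
    refine Set.eq_of_subset_of_ncard_le hsub' ?_ (finite_set _)
    unfold Nat.ModEq at hmod'
    rw [Nat.mod_eq_of_lt (by omega : (Fx x').ncard < s), Nat.mod_eq_of_lt (by omega : _ < s)] at hmod'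
    omega
  have hl : gen .l ∈ Fx x' := ⟨gen_mem_L .l, hg⟩
  rw [← heq] at hl
  obtain ⟨m, hm, hms⟩ := exists_phi hodd hy' hl.2
  refine FiTT.eleven hk11 hs (by omega) hs' hms ?_
  apply facts.phi_injective
  rw [map_mul, map_mul, hk, hm]
  exact hxy'

/-- the centralizer in `Fi24'` is at most the centralizer in `Fi24` -/
theorem card_cent_le (x : Spor.Fi24') : Nat.card (centralizer ({x} : Set Spor.Fi24')) ≤
    Nat.card (centralizer ({(x : Fi24)} : Set Fi24)) := by
  have hfin : Finite Fi24 := finite_Fi24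
  have h0 : Nat.card ((centralizer ({x} : Set Spor.Fi24')).map (commutator Fi24).subtype) =
      Nat.card (centralizer ({x} : Set Spor.Fi24')) :=
    Subgroup.card_map_of_injective (Subgroup.subtype_injective _)
  rw [← h0]
  refine Subgroup.card_le_of_le ?_
  rintro _ ⟨y, hy, rfl⟩
  exact mem_centralizer_singleton_iff.2 (congrArg Subtype.val (mem_centralizer_singleton_iff.1 hy))

/-- the primes dividing a centralizer -/
theorem not_dvd_cent [Finite Spor.Fi24'] {x : Spor.Fi24'} {s : ℕ} (hs : s.Prime)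
    (h : ∀ y : Fi24, orderOf y = s → (x : Fi24) * y = y * x → False) :
    ¬ s ∣ Nat.card (centralizer ({x} : Set Spor.Fi24')) := by
  intro hd
  have : Fact s.Prime := ⟨hs⟩
  obtain ⟨y, hy⟩ := exists_prime_orderOf_dvd_card' s hd
  refine h ((y : Spor.Fi24') : Fi24) ?_ ?_
  · rw [Subgroup.orderOf_coe, Subgroup.orderOf_coe]; exact hy
  · exact (congrArg Subtype.val (mem_centralizer_singleton_iff.1 y.2)).symm

theorem row : Cfsg.Agent.H730.Pair.PairRow Spor.Fi24' := by
  have hfin : Finite Fi24 := finite_Fi24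
  have hfin' : Finite Spor.Fi24' := Cfsg.Agent.H713.Spor.FiTF.finite'
  have hcard : Nat.card Spor.Fi24' = 1255205709190661721292800 := card_commutator
  have f11 : Fact (Nat.Prime 11) := ⟨by norm_num⟩
  have f23 : Fact (Nat.Prime 23) := ⟨by norm_num⟩
  have f29 : Fact (Nat.Prime 29) := ⟨by norm_num⟩
  obtain ⟨a, -, ha, hca, -⟩ := Cfsg.Agent.H30.IMFi24.exists_x
  obtain ⟨b, hb⟩ := exists_prime_orderOf_dvd_card' (G := Spor.Fi24') 11 (by rw [hcard]; norm_num)
  obtain ⟨c, hc⟩ := exists_prime_orderOf_dvd_card' (G := Spor.Fi24') 23 (by rw [hcard]; norm_num)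
  have hb' : orderOf (b : Fi24) = 11 := by rw [Subgroup.orderOf_coe]; exact hb
  have hc' : orderOf (c : Fi24) = 23 := by rw [Subgroup.orderOf_coe]; exact hc
  have va := Cfsg.Agent.H713.HasDZ.vz Cfsg.Agent.H713.Spor.FiTF.hasDZ_29 (x := a) (by rw [ha])
  have vb := Cfsg.Agent.H713.HasDZ.vz Cfsg.Agent.H419.Spor.Fi.hasDZ_fi24' (x := b) (by rw [hb])
  have vc := Cfsg.Agent.H713.HasDZ.vz Cfsg.Agent.H713.Spor.FiTF.hasDZ_23 (x := c) (by rw [hc])
  -- the class of `a`
  have ka : ∀ p : ℕ, p.Prime → p ∣ Nat.card Spor.Fi24' → p ≠ 29 →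
      p ∣ (centralizer ({a} : Set Spor.Fi24')).index := fun p hp hd hne => by
    rw [← (centralizer ({a} : Set Spor.Fi24')).card_mul_index, hca] at hd
    refine (hp.dvd_mul.1 hd).resolve_left fun h => hne ?_
    exact (Nat.prime_dvd_prime_iff_eq hp (by norm_num)).1 h
  -- the class of `b`
  have hb306 : Nat.card (centralizer ({b} : Set Spor.Fi24')) ≤ 306936 :=
    (card_cent_le b).trans (Cfsg.Agent.H187.FiOdd.card_cent_big (by simp) hb')
  have kb : ∀ p : ℕ, p.Prime → p ∣ Nat.card Spor.Fi24' → p ≠ 11 →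
      p ∣ (centralizer ({b} : Set Spor.Fi24')).index := fun p hp hd hne => by
    by_cases h2 : p = 2
    · subst h2
      refine Cfsg.Agent.H730.Pair.dvd_index_of_not_dvd hp (k := 21) (by rw [hcard]; norm_num) fun h => ?_
      have := Nat.le_of_dvd Nat.card_pos h
      omega
    by_cases h3 : p = 3
    · subst h3
      refine Cfsg.Agent.H730.Pair.dvd_index_of_not_dvd hp (k := 16) (by rw [hcard]; norm_num) fun h => ?_
      have := Nat.le_of_dvd Nat.card_pos h
      omega
    have h5 : 5 ≤ p := by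
      have := hp.two_le
      have h4 : p ≠ 4 := by rintro rfl; norm_num at hp
      omega
    have h22 : ¬ p ∣ 22 := by
      intro h
      rw [show (22 : ℕ) = 2 * 11 from rfl, hp.dvd_mul, Nat.prime_dvd_prime_iff_eq hp (by norm_num),
        Nat.prime_dvd_prime_iff_eq hp (by norm_num)] at h
      tauto
    refine Cfsg.Agent.H730.Pair.dvd_index_of_not_dvd hp (k := 1) (by rwa [pow_one]) ?_
    rw [pow_one]
    exact not_dvd_cent hp fun y hy hxy => eleven hb' hp h5 h22 hy hxy
  -- the class of `c`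
  have kc11 : 11 ∣ (centralizer ({c} : Set Spor.Fi24')).index := by
    refine Cfsg.Agent.H730.Pair.dvd_index_of_not_dvd (by norm_num) (k := 1) (by rw [hcard]; norm_num) ?_
    rw [pow_one]
    exact not_dvd_cent (by norm_num) fun y hy hxy => eleven hy (s := 23) (by norm_num) (by norm_num) (by norm_num)
      hc' hxy.symm
  have kc29 : 29 ∣ (centralizer ({c} : Set Spor.Fi24')).index := by
    refine Cfsg.Agent.H730.Pair.dvd_index_of_not_dvd (by norm_num) (k := 1) (by rw [hcard]; norm_num) ?_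
    rw [pow_one]
    exact not_dvd_cent (by norm_num) fun y hy hxy => twentythree hc' (s := 29) (by norm_num) (by norm_num)
      (fun _ l _ hl _ => no_29 l hl) hy hxy
  intro p q hp hq hpq hpS hqS
  by_cases p29 : p = 29
  · subst p29
    by_cases q11 : q = 11
    · subst q11
      exact ⟨c, vc, kc29, kc11⟩
    · exact ⟨b, vb, kb 29 hp hpS (by norm_num), kb q hq hqS q11⟩
  · by_cases q29 : q = 29
    · subst q29
      by_cases p11 : p = 11
      · subst p11
        exact ⟨c, vc, kc11, kc29⟩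
      · exact ⟨b, vb, kb p hp hpS p11, kb 29 hq hqS (by norm_num)⟩
    · exact ⟨a, va, ka p hp hpS p29, ka q hq hqS q29⟩

theorem pairRow {K : Type*} [Group K] (h : Spor.IsoFi24' K) : Cfsg.Agent.H730.Pair.PairRow K :=
  h.elim fun e => row.mulEquiv e.symm

end Cfsg.Agent.H728.PairFi24
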